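import Cfsg.Agent.Lib.A8Sub.Tools
import Cfsg.Agent.Lib.Perm.Jordan

/-!
# Subgroups of `A_8` of order prime to 7 without solvable normal subgroups
-/

set_option autoImplicit false
set_option linter.style.haveILetI false

namespace Cfsg.Agent.A8Sub

open Equiv Subgroup MulAction
open scoped Pointwise

/-- A transitive group of degree 8 containing a 5-cycle is primitive. -/
theorem isPreprimitive_of_five_cycle (K : Subgroup (Perm (Fin 8))) [IsPretransitive K (Fin 8)]
    {σ : Perm (Fin 8)} (hσ : σ ∈ K) (hc : σ.IsCycle) (h5 : σ.support.card = 5) :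
    IsPreprimitive K (Fin 8) := by
  have hord : orderOf σ = 5 := by rw [hc.orderOf, h5]
  obtain ⟨a, ha⟩ : σ.support.Nonempty := Finset.card_pos.1 (by omega)
  refine IsPreprimitive.of_isTrivialBlock_base a fun {B} haB hB => ?_
  let s : K := ⟨σ, hσ⟩
  have hne : B.Nonempty := ⟨a, haB⟩
  rcases hB.smul_eq_or_disjoint s with hfixB | hdisj
  · -- the block contains the cycle
    right
    have hsub : (σ.support : Set (Fin 8)) ⊆ B := by
      intro y hy
      obtain ⟨i, rfl⟩ := hc.exists_pow_eq (Perm.mem_support.1 ha) (Perm.mem_support.1 hy)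
      have hi : ∀ i : ℕ, (s ^ i) • B = B := fun i => by
        induction i with
        | zero => rw [pow_zero, one_smul]
        | succ i ih => rw [pow_succ', mul_smul, ih, hfixB]
      rw [← hi i]
      exact ⟨a, haB, by simp [Subgroup.smul_def, s]⟩
    have h5B : 5 ≤ B.ncard := by
      rw [← h5, ← Set.ncard_coe_finset]
      exact Set.ncard_le_ncard hsub (Set.toFinite _)
    have hdvd := hB.ncard_dvd_card hne
    rw [Nat.card_fin] at hdvd
    have hle := Nat.le_of_dvd (by norm_num) hdvd
    have h8 : B.ncard = 8 := by interval_cases B.ncard <;> omega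
    exact Set.eq_univ_of_univ_subset
      ((Set.eq_of_subset_of_ncard_le (Set.subset_univ B) (by simp [h8]) (Set.toFinite _)).ge)
  · left
    rw [← Set.ncard_le_one_iff_subsingleton]
    have hpd : ∀ i j : Fin 5, i ≠ j → Disjoint ((s ^ (i : ℕ)) • B) ((s ^ (j : ℕ)) • B) := by
      intro i j hij
      rcases hB.smul_eq_smul_or_disjoint (s ^ (i : ℕ)) (s ^ (j : ℕ)) with heq | h
      · exfalso
        have hmem : (s ^ (i : ℕ))⁻¹ * s ^ (j : ℕ) ∈ MulAction.stabilizer K B := by
          rw [MulAction.mem_stabilizer_iff, mul_smul, ← heq, inv_smul_smul]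
        haveI : Fact (Nat.Prime 5) := ⟨by norm_num⟩
        have hs5 : Nat.card (Subgroup.zpowers s) = 5 := by
          rw [Nat.card_zpowers, ← Subgroup.orderOf_coe]
          exact hord
        have hone : (s ^ (i : ℕ))⁻¹ * s ^ (j : ℕ) = 1 := by
          by_contra hn1
          let u : Subgroup.zpowers s :=
            ⟨(s ^ (i : ℕ))⁻¹ * s ^ (j : ℕ), mul_mem (inv_mem (pow_mem (mem_zpowers s) _))
              (pow_mem (mem_zpowers s) _)⟩
          obtain ⟨k, hk⟩ := Subgroup.mem_zpowers_iff.1 (mem_zpowers_of_prime_card hs5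
            (g := u) (g' := ⟨s, mem_zpowers s⟩) (fun h => hn1 (congrArg Subtype.val h)))
          have hsB : s • B = B := by
            have hs' : s = ((s ^ (i : ℕ))⁻¹ * s ^ (j : ℕ)) ^ k := by
              simpa [u] using (congrArg Subtype.val hk).symm
            rw [hs']
            exact zpow_mem hmem k
          rw [hsB] at hdisj
          exact hne.ne_empty (disjoint_self.1 hdisj)
        have h' : s ^ (i : ℕ) = s ^ (j : ℕ) := inv_mul_eq_one.1 hone
        have hs : orderOf s = 5 := by rw [← Subgroup.orderOf_coe]; exact hord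
        exact hij (Fin.ext (pow_injOn_Iio_orderOf (by simp [hs, i.isLt]) (by simp [hs, j.isLt]) h'))
      · exact h
    have hinj : Function.Injective fun p : Fin 5 × B => (s ^ (p.1 : ℕ)) • (p.2 : Fin 8) := by
      rintro ⟨i, b⟩ ⟨j, c⟩ hbc
      rcases eq_or_ne i j with rfl | hij
      · exact Prod.ext rfl (Subtype.ext (MulAction.injective _ hbc))
      · exfalso
        simp only at hbc
        have h1 : (s ^ (i : ℕ)) • (b : Fin 8) ∈ (s ^ (j : ℕ)) • B := by
          rw [hbc]; exact Set.smul_mem_smul_set c.2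
        exact Set.disjoint_left.1 (hpd i j hij) (Set.smul_mem_smul_set b.2) h1
    have := Nat.card_le_card_of_injective _ hinj
    rw [Nat.card_prod, Nat.card_fin, Nat.card_fin, Nat.card_coe_set_eq] at this
    omega

variable {G : Type*} [Group G] [Finite G]

/-- Good subgroups of `S_5` of order divisible by 5. -/
theorem of_embed_five [Nontrivial G] (hg : Good G) (r : G →* Perm (Fin 5))
    (hr : Function.Injective r) :
    Nonempty (G ≃* alternatingGroup (Fin 5)) ∨ Nonempty (G ≃* Perm (Fin 5)) := by
  have hd := Subgroup.card_dvd_of_injective r hr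
  rw [Nat.card_perm, Nat.card_fin] at hd
  have key : ∀ d < 121, d ∣ 120 → d ≠ 120 → d ≤ 100 := by decide +kernel
  by_cases h : Nat.card G = 120
  · exact Or.inr (nonempty_equiv_of_card r hr (by rw [h, Nat.card_perm, Nat.card_fin]; rfl))
  · left
    refine iso_alternating_five hg ?_
    by_contra h60
    exact not_isSolvable_of_good hg (isSolvable_of_card_le_hundred G
      (key _ (Nat.lt_succ_of_le (Nat.le_of_dvd (by norm_num) hd)) hd h) h60)

/-- Good subgroups of `S_6` of order divisible by 5. -/
theorem of_embed_six [Nontrivial G] (hg : Good G) (r : G →* Perm (Fin 6))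
    (hr : Function.Injective r) (h5 : 5 ∣ Nat.card G) :
    Nonempty (G ≃* alternatingGroup (Fin 5)) ∨ Nonempty (G ≃* Perm (Fin 5)) ∨
      Nonempty (G ≃* alternatingGroup (Fin 6)) ∨ Nonempty (G ≃* Perm (Fin 6)) := by
  have e := MonoidHom.ofInjective hr
  have hc : Nat.card r.range = Nat.card G := Nat.card_congr e.symm.toEquiv
  have h720 : Nat.card (Perm (Fin 6)) = 720 := by rw [Nat.card_perm, Nat.card_fin]; rfl
  have hmul := r.range.card_mul_index
  rw [hc, h720] at hmul
  have hd : Nat.card G ∣ 720 := ⟨_, hmul.symm⟩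
  have key : ∀ d : ℕ, d < 721 → (d ∣ 720 ∧ 5 ∣ d) →
      d = 720 ∨ d = 360 ∨ d = 240 ∨ d = 180 ∨ d = 144 ∨ d = 120 ∨ d ≤ 100 := by decide +kernel
  have hcore : Nat.card G < 360 → r.range.normalCore = ⊥ := fun hlt => by
    by_contra hne
    have hle := Equiv.Perm.alternatingGroup_le_of_normal (α := Fin 6) (by simp)
      (N := r.range.normalCore) (Subgroup.bot_or_nontrivial _ |>.resolve_left hne)
    have hc' := Subgroup.card_le_of_le (hle.trans (Subgroup.normalCore_le _))
    rw [hc, nat_card_alternatingGroup, Nat.card_fin] at hc'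
    norm_num [Nat.factorial] at hc'
    omega
  rcases key _ (Nat.lt_succ_of_le (Nat.le_of_dvd (by norm_num) hd)) ⟨hd, h5⟩ with
    h | h | h | h | h | h | h
  · exact Or.inr (Or.inr (Or.inr (nonempty_equiv_of_card r hr (h.trans h720.symm))))
  · exact Or.inr (Or.inr (Or.inl (nonempty_equiv_alternating r hr (by rw [h]; rfl))))
  · exfalso
    obtain ⟨s, hs⟩ := exists_embed_of_core_bot r.range (m := 2) (by rw [h] at hmul; omega)
      (hcore (by omega))
    have := Subgroup.card_dvd_of_injective s hs
    rw [hc, h, Nat.card_perm, Nat.card_fin] at this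
    exact absurd this (by decide)
  · exfalso
    obtain ⟨s, hs⟩ := exists_embed_of_core_bot r.range (m := 3) (by rw [h] at hmul; omega)
      (hcore (by omega))
    have := Subgroup.card_dvd_of_injective s hs
    rw [hc, h, Nat.card_perm, Nat.card_fin] at this
    exact absurd this (by decide)
  · omega
  · obtain ⟨s, hs⟩ := exists_embed_of_core_bot r.range (m := 5) (by rw [h] at hmul; omega)
      (hcore (by omega))
    exact Or.inr (Or.inl (nonempty_equiv_of_card (s.comp e.toMonoidHom) (hs.comp e.injective)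
      (by rw [h, Nat.card_perm, Nat.card_fin]; rfl)))
  · left
    refine iso_alternating_five hg ?_
    by_contra h60
    exact not_isSolvable_of_good hg (isSolvable_of_card_le_hundred G h h60)

theorem five_case [Nontrivial G] (hg : Good G) (f : G →* alternatingGroup (Fin 8))
    (hf : Function.Injective f) (h5 : 5 ∣ Nat.card G) (h7 : ¬ 7 ∣ Nat.card G) :
    Nonempty (G ≃* alternatingGroup (Fin 5)) ∨ Nonempty (G ≃* Perm (Fin 5)) ∨
      Nonempty (G ≃* alternatingGroup (Fin 6)) ∨ Nonempty (G ≃* Perm (Fin 6)) := by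
  haveI : Fact (Nat.Prime 5) := ⟨by norm_num⟩
  set f₀ : G →* Perm (Fin 8) := (alternatingGroup (Fin 8)).subtype.comp f with hf₀d
  have hf₀ : Function.Injective f₀ := (alternatingGroup (Fin 8)).subtype_injective.comp hf
  obtain ⟨g, hg5⟩ := exists_prime_orderOf_dvd_card' 5 h5
  set σ := f₀ g with hσd
  have hσ : orderOf σ = 5 := by rw [hσd, orderOf_injective f₀ hf₀, hg5]
  obtain ⟨n, hn⟩ := Perm.cycleType_prime_order (hσ ▸ (by norm_num) : (orderOf σ).Prime)
  have hsum := σ.sum_cycleType
  have hle := σ.support.card_le_univ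
  rw [hn, Multiset.sum_replicate, hσ, smul_eq_mul] at hsum
  rw [Fintype.card_fin] at hle
  have hn0 : n = 0 := by omega
  subst hn0
  have hcyc : σ.IsCycle := Perm.isCycle_of_prime_order (hσ ▸ (by norm_num)) (by omega)
  have hs5 : σ.support.card = 5 := by omega
  set K := f₀.range with hK
  let e : G ≃* K := MonoidHom.ofInjective hf₀
  have hσK : σ ∈ K := ⟨g, rfl⟩
  have hKc : Nat.card K = Nat.card G := Nat.card_congr e.symm.toEquiv
  obtain ⟨a, ha⟩ : σ.support.Nonempty := Finset.card_pos.1 (by omega)
  set Ω := MulAction.orbit K a with hΩ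
  have hsub : (σ.support : Set (Fin 8)) ⊆ Ω := by
    intro y hy
    obtain ⟨i, rfl⟩ := hcyc.exists_pow_eq (Perm.mem_support.1 ha) (Perm.mem_support.1 hy)
    exact ⟨⟨σ ^ i, pow_mem hσK i⟩, rfl⟩
  have hge : 5 ≤ Ω.ncard := by
    rw [← hs5, ← Set.ncard_coe_finset]
    exact Set.ncard_le_ncard hsub (Set.toFinite _)
  have hle8 : Ω.ncard ≤ 8 := le_trans (Set.ncard_le_card Ω) (by simp)
  have hdvd : Ω.ncard ∣ Nat.card G := by
    rw [hΩ, ← MulAction.index_stabilizer, ← hKc]
    exact Subgroup.index_dvd_card _
  have hne7 : Ω.ncard ≠ 7 := fun h => h7 (h ▸ hdvd)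
  by_cases h8 : Ω.ncard = 8
  · exfalso
    have huniv : Ω = Set.univ :=
      Set.eq_of_subset_of_ncard_le (Set.subset_univ _) (by simp [h8]) (Set.toFinite _)
    haveI : IsPretransitive K (Fin 8) :=
      (isPretransitive_iff_base a).2 fun y => MulAction.mem_orbit_iff.1 (huniv ▸ Set.mem_univ y : y ∈ Ω)
    have hA := Perm.alternatingGroup_le_of_prime_cycle K
      (isPreprimitive_of_five_cycle K hσK hcyc hs5) (p := 5) (by norm_num) (by simp) hcyc hs5 hσK
    apply h7
    have h := Subgroup.card_dvd_of_le hA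
    rw [hKc, nat_card_alternatingGroup, Nat.card_fin] at h
    exact dvd_trans (by norm_num [Nat.factorial]) h
  set m := Ω.ncard with hm
  let r : G →* Perm Ω := (MulAction.toPermHom K Ω).comp e.toMonoidHom
  have hr : Function.Injective r := by
    rw [← MonoidHom.ker_eq_bot_iff]
    apply hg _ inferInstance
    have hcompl : Nat.card {x : Fin 8 // x ∉ Ω} ≤ 3 := by
      have h1 : Nat.card {x : Fin 8 // x ∉ Ω} = (Ωᶜ).ncard := Nat.card_coe_set_eq (Ωᶜ)
      rw [h1, Set.ncard_compl, Nat.card_fin]
      omega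
    have hfix : ∀ k : r.ker, ∀ x, f₀ (k : G) x ∉ Ω ↔ x ∉ Ω := fun k x => by
      have hkx : ∀ y ∈ Ω, f₀ (k : G) y = y := fun y hy =>
        congrArg Subtype.val (Equiv.congr_fun (MonoidHom.mem_ker.1 k.2) (⟨y, hy⟩ : Ω))
      rw [not_iff_not]
      constructor
      · intro h
        have := hkx _ h
        rw [(f₀ (k : G)).injective this] at h
        exact h
      · intro h
        rw [hkx x h]
        exact h
    let s : r.ker →* Perm {x : Fin 8 // x ∉ Ω} :=
      { toFun := fun k => (f₀ (k : G)).subtypePerm (hfix k)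
        map_one' := by
          ext x
          simp
        map_mul' := fun a b => by
          refine Equiv.ext fun x => Subtype.ext ?_
          show f₀ ((a * b : r.ker) : G) (x : Fin 8) = f₀ (a : G) (f₀ (b : G) (x : Fin 8))
          rw [Subgroup.coe_mul, map_mul, Equiv.Perm.mul_apply] }
    have hs : Function.Injective s := by
      refine (injective_iff_map_eq_one s).2 fun k hk => ?_
      refine Subtype.ext (hf₀ ?_)
      rw [Subgroup.coe_one, map_one]
      refine Equiv.ext fun x => ?_
      by_cases hx : x ∈ Ω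
      · exact congrArg Subtype.val (Equiv.congr_fun (MonoidHom.mem_ker.1 k.2) (⟨x, hx⟩ : Ω))
      · exact congrArg Subtype.val (Equiv.congr_fun hk ⟨x, hx⟩)
    have hker : Nat.card r.ker ∣ 6 := by
      refine (Subgroup.card_dvd_of_injective s hs).trans ?_
      rw [Nat.card_perm]
      exact (Nat.factorial_dvd_factorial hcompl).trans (by norm_num [Nat.factorial])
    have := Nat.le_of_dvd (by norm_num) hker
    exact isSolvable_of_card_le_hundred _ (by omega) (by omega)
  have hm56 : m = 5 ∨ m = 6 := by omega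
  have hcardΩ : Nat.card Ω = m := Nat.card_coe_set_eq Ω
  rcases hm56 with h | h
  · rcases of_embed_five hg ((Finite.equivFinOfCardEq (hcardΩ.trans h)).permCongrHom.toMonoidHom.comp r)
      ((Finite.equivFinOfCardEq (hcardΩ.trans h)).permCongrHom.injective.comp hr) with h1 | h1
    · exact Or.inl h1
    · exact Or.inr (Or.inl h1)
  · exact of_embed_six hg ((Finite.equivFinOfCardEq (hcardΩ.trans h)).permCongrHom.toMonoidHom.comp r)
      ((Finite.equivFinOfCardEq (hcardΩ.trans h)).permCongrHom.injective.comp hr) h5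

end Cfsg.Agent.A8Sub
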