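import Cfsg.Agent.Lib.A8Sub.Tools
import Cfsg.Agent.Lib.GL.FourTwo
import Cfsg.Agent.Lib.SmallSimple.Order168Iso

/-!
# `GL_n(2)` for `n = 3, 4`, and: no simple group of order 1344 in `GL_4(2)`
-/

set_option autoImplicit false
set_option linter.style.haveILetI false

open Matrix

namespace Cfsg.Agent.A8Sub

theorem card_units_zmod_two : Nat.card (ZMod 2)ˣ = 1 := by
  rw [GL.card_units_field, ZMod.card]

/-- `SL_n(2) = GL_n(2)`. -/
theorem nonempty_SL_equiv_GL (n : ℕ) [NeZero n] :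
    Nonempty (SpecialLinearGroup (Fin n) (ZMod 2) ≃* GL (Fin n) (ZMod 2)) :=
  nonempty_equiv_of_card SpecialLinearGroup.toGL SpecialLinearGroup.toGL_injective (by
    rw [GL.card_GL_eq_SL_mul_units, card_units_zmod_two, mul_one])

theorem exists_GL_four_equiv :
    Nonempty (GL (Fin 4) (ZMod 2) ≃* alternatingGroup (Fin 8)) := by
  obtain ⟨e⟩ := nonempty_SL_equiv_GL 4
  obtain ⟨e'⟩ := GL.FourTwo.iso_alternating
  exact ⟨e.symm.trans e'⟩

theorem card_GL_three : Nat.card (GL (Fin 3) (ZMod 2)) = 168 := by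
  rw [GL.card_GL 3 (Fintype.card_fin 3), ZMod.card, Fin.prod_univ_three]
  decide

theorem isSimpleGroup_GL_three : IsSimpleGroup (GL (Fin 3) (ZMod 2)) := by
  have hc : Subgroup.center (SpecialLinearGroup (Fin 3) (ZMod 2)) = ⊥ := by
    refine (Subgroup.eq_bot_iff_card _).2 ?_
    rw [GL.card_center_SL, ZMod.card]
    rfl
  obtain ⟨e⟩ := nonempty_SL_equiv_GL 3
  haveI := GL.PSL_isSimpleGroup (F := ZMod 2) 3 (by norm_num) (by norm_num)
  have e' : ProjectiveSpecialLinearGroup (Fin 3) (ZMod 2) ≃* GL (Fin 3) (ZMod 2) :=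
    ((QuotientGroup.quotientMulEquivOfEq hc).trans QuotientGroup.quotientBot).trans e
  exact MulEquiv.isSimpleGroup e'.symm

theorem iso_GL_three {G : Type*} [Group G] [Finite G] [IsSimpleGroup G] (h : Nat.card G = 168) :
    Nonempty (G ≃* GL (Fin 3) (ZMod 2)) :=
  haveI := isSimpleGroup_GL_three
  SmallSimple.nonempty_mulEquiv_168 h card_GL_three

theorem card_perp_le (v : Fin 4 → ZMod 2) : v ≠ 0 →
    (Finset.univ.filter fun φ : Fin 4 → ZMod 2 => φ ≠ 0 ∧ φ ⬝ᵥ v = 0).card ≤ 7 := by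
  revert v
  decide +kernel

theorem perp_perp (v d : Fin 4 → ZMod 2) :
    (∀ φ : Fin 4 → ZMod 2, φ ⬝ᵥ v = 0 → φ ⬝ᵥ d = 0) → d = 0 ∨ d = v := by
  revert v d
  decide +kernel

/-- No simple group of order 1344 is linear of degree 4 over `F_2`. -/
theorem false_of_simple_1344 {G : Type*} [Group G] [Finite G] [IsSimpleGroup G]
    (hnc : ¬ IsMulCommutative G) (h : Nat.card G = 1344) (ρ : G →* GL (Fin 4) (ZMod 2))
    (hρ : Function.Injective ρ) : False := by
  -- subgroups of index at most 7 are everything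
  have htop : ∀ K : Subgroup G, K.index ≤ 7 → K = ⊤ := fun K hK => by
    by_contra hne
    have hd := (SmallSimple.card_dvd_factorial hne).trans (Nat.factorial_dvd_factorial hK)
    rw [h] at hd
    exact absurd hd (by decide)
  haveI : Fact (Nat.Prime 2) := ⟨Nat.prime_two⟩
  obtain ⟨S⟩ := (inferInstance : Nonempty (Sylow 2 G))
  have hS : Nat.card S = 64 := SmallSimple.card_sylow_subgroup (p := 2) (k := 6) (m := 21)
    (by rw [h]; norm_num) (by norm_num) S
  have hSi : (S : Subgroup G).index = 21 := by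
    have := (S : Subgroup G).card_mul_index
    rw [h] at this
    have hS' : Nat.card (S : Subgroup G) = 64 := hS
    rw [hS'] at this
    omega
  letI actV : MulAction G (Fin 4 → ZMod 2) :=
    { smul := fun g x => (ρ g : Matrix (Fin 4) (Fin 4) (ZMod 2)) *ᵥ x
      one_smul := fun x => by
        show (ρ 1 : Matrix (Fin 4) (Fin 4) (ZMod 2)) *ᵥ x = x
        simp
      mul_smul := fun a b x => by
        show (ρ (a * b) : Matrix (Fin 4) (Fin 4) (ZMod 2)) *ᵥ x =
          (ρ a : Matrix (Fin 4) (Fin 4) (ZMod 2)) *ᵥ ((ρ b : Matrix (Fin 4) (Fin 4) (ZMod 2)) *ᵥ x)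
        simp [Matrix.mulVec_mulVec] }
  obtain ⟨v, hv, hv0⟩ := S.isPGroup'.exists_fixed_point_of_prime_dvd_card_of_fixed_point
    (Fin 4 → ZMod 2) (by simp) (a := (0 : Fin 4 → ZMod 2)) (fun g => Matrix.mulVec_zero _)
  have hfix : ∀ g : G, (ρ g : Matrix (Fin 4) (Fin 4) (ZMod 2)) *ᵥ v = v := by
    have hle : (S : Subgroup G) ≤ MulAction.stabilizer G v := fun g hg => hv ⟨g, hg⟩
    have hdvd := Subgroup.index_dvd_of_le hle
    rw [hSi] at hdvd
    have hle15 : (MulAction.orbit G v).ncard ≤ 15 := by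
      calc (MulAction.orbit G v).ncard ≤ ({(0 : Fin 4 → ZMod 2)}ᶜ : Set _).ncard :=
            Set.ncard_le_ncard (fun x hx => by
              obtain ⟨g, rfl⟩ := hx
              intro hx0
              rw [Set.mem_singleton_iff] at hx0
              have h1 := congrArg (fun y => g⁻¹ • y) hx0
              simp only [inv_smul_smul] at h1
              exact hv0 (h1.trans (Matrix.mulVec_zero _)).symm) (Set.toFinite _)
        _ = 15 := by
          rw [Set.ncard_compl, Set.ncard_singleton]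
          simp
    rw [← MulAction.index_stabilizer] at hle15
    have h7 : (MulAction.stabilizer G v).index ≤ 7 := by
      have hpos := Subgroup.index_ne_zero_of_finite (H := MulAction.stabilizer G v)
      interval_cases hi : (MulAction.stabilizer G v).index <;> omega
    intro g
    have hg : g ∈ MulAction.stabilizer G v := by rw [htop _ h7]; trivial
    exact hg
  letI actF : MulAction G {φ : Fin 4 → ZMod 2 // φ ≠ 0 ∧ φ ⬝ᵥ v = 0} :=
    { smul := fun g φ => ⟨φ.1 ᵥ* (ρ g⁻¹ : Matrix (Fin 4) (Fin 4) (ZMod 2)), fun h0 => φ.2.1 (by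
          have := congrArg (fun y => y ᵥ* (ρ g : Matrix (Fin 4) (Fin 4) (ZMod 2))) h0
          simpa [Matrix.vecMul_vecMul, ← Units.val_mul] using this), by
        rw [← Matrix.dotProduct_mulVec, hfix]; exact φ.2.2⟩
      one_smul := fun φ => Subtype.ext (by
        show φ.1 ᵥ* (ρ (1 : G)⁻¹ : Matrix (Fin 4) (Fin 4) (ZMod 2)) = φ.1
        simp)
      mul_smul := fun a b φ => Subtype.ext (by
        show φ.1 ᵥ* (ρ (a * b)⁻¹ : Matrix (Fin 4) (Fin 4) (ZMod 2)) =
          (φ.1 ᵥ* (ρ b⁻¹ : Matrix (Fin 4) (Fin 4) (ZMod 2))) ᵥ*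
            (ρ a⁻¹ : Matrix (Fin 4) (Fin 4) (ZMod 2))
        simp [Matrix.vecMul_vecMul]) }
  have hdual : ∀ (g : G) (φ : Fin 4 → ZMod 2), φ ⬝ᵥ v = 0 →
      φ ᵥ* (ρ g : Matrix (Fin 4) (Fin 4) (ZMod 2)) = φ := by
    intro g φ hφ
    rcases eq_or_ne φ 0 with rfl | h0
    · exact Matrix.zero_vecMul _
    let ψ : {φ : Fin 4 → ZMod 2 // φ ≠ 0 ∧ φ ⬝ᵥ v = 0} := ⟨φ, h0, hφ⟩
    have h7 : (MulAction.stabilizer G ψ).index ≤ 7 := by
      rw [MulAction.index_stabilizer]
      refine le_trans ((MulAction.orbit G ψ).ncard_le_card) ?_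
      rw [Nat.card_eq_fintype_card, Fintype.card_subtype]
      exact card_perp_le v (Ne.symm hv0)
    have hg : g⁻¹ ∈ MulAction.stabilizer G ψ := by rw [htop _ h7]; trivial
    have h1 : φ ᵥ* (ρ g⁻¹⁻¹ : Matrix (Fin 4) (Fin 4) (ZMod 2)) = φ :=
      congrArg Subtype.val (MulAction.mem_stabilizer_iff.1 hg)
    rwa [inv_inv] at h1
  have hsq : ∀ g : G, g * g = 1 := fun g => by
    refine hρ (Units.ext (Matrix.ext_of_mulVec_single fun i => ?_))
    rw [map_mul, map_one, Units.val_mul, Units.val_one, Matrix.one_mulVec, ← Matrix.mulVec_mulVec]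
    generalize (Pi.single i (1 : ZMod 2) : Fin 4 → ZMod 2) = x
    rcases perp_perp v ((ρ g : Matrix (Fin 4) (Fin 4) (ZMod 2)) *ᵥ x - x) (fun φ hφ => by
      rw [dotProduct_sub, Matrix.dotProduct_mulVec, hdual g φ hφ, sub_self]) with hd | hd
    · rw [sub_eq_zero] at hd
      rw [hd, hd]
    · rw [sub_eq_iff_eq_add'] at hd
      rw [hd, Matrix.mulVec_add, hd, hfix, add_assoc, CharTwo.add_self_eq_zero, add_zero]
  refine hnc (isMulCommutative_iff.2 fun a b => ?_)
  have hi : ∀ g : G, g⁻¹ = g := fun g => inv_eq_of_mul_eq_one_right (hsq g)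
  calc a * b = (a * b)⁻¹ := (hi _).symm
    _ = b * a := by rw [_root_.mul_inv_rev, hi, hi]

end Cfsg.Agent.A8Sub
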