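import Cfsg.Agent.Lib.A8Sub.Seven
import Cfsg.Agent.Lib.A8Sub.Five
import Cfsg.Agent.Lib.A8Sub.Linear
import Cfsg.Agent.Lib.ThreeInvol.Solvable

/-!
Non-solvable subgroups of `A_8` without normal 2-subgroups: either no solvable normal subgroup, or
`O_3` has order 3 and the quotient by it is `A_5` or `S_5`.
-/

set_option autoImplicit false
set_option linter.style.haveILetI false

namespace Cfsg.Agent.A8Sub

open Subgroup Equiv

variable {G : Type*} [Group G]

/-- If `Good` fails there is a non-trivial normal elementary abelian subgroup. -/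
theorem exists_normal_elementary_of_not_good [Finite G] (hg : ¬ Good G) :
    ∃ (p : ℕ) (E : Subgroup G), p.Prime ∧ E.Normal ∧ E ≠ ⊥ ∧ (∀ a ∈ E, ∀ b ∈ E, a * b = b * a) ∧
      ∀ a ∈ E, a ^ p = 1 := by
  classical
  simp only [Good, not_forall] at hg
  obtain ⟨N, hN, hsol, hne⟩ := hg
  haveI := hN
  obtain ⟨n, hn⟩ := hsol.solvable
  have hex : ∃ n, derivedSeries N n = ⊥ := ⟨n, hn⟩
  have hnt : Nontrivial N := N.bot_or_nontrivial.resolve_left hne
  have h0 : Nat.find hex ≠ 0 := by
    intro h
    have := Nat.find_spec hex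
    rw [h, derivedSeries_zero] at this
    exact bot_ne_top this.symm
  obtain ⟨m, hm⟩ := Nat.exists_eq_succ_of_ne_zero h0
  have hAne : derivedSeries N m ≠ ⊥ := Nat.find_min hex (by omega)
  have hAab : ⁅derivedSeries N m, derivedSeries N m⁆ = ⊥ := by
    have := Nat.find_spec hex
    rwa [hm] at this
  haveI : (derivedSeries N m).Characteristic := derivedSeries_characteristic N m
  set B := (derivedSeries N m).map N.subtype with hB
  haveI hBn : B.Normal := inferInstance
  have hBab : ∀ a ∈ B, ∀ b ∈ B, a * b = b * a := fun a ha b hb => by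
    rw [← commutatorElement_eq_one_iff_mul_comm, ← Subgroup.mem_bot, ← Subgroup.map_bot N.subtype,
      ← hAab, Subgroup.map_commutator]
    exact Subgroup.commutator_mem_commutator ha hb
  have hBne : B ≠ ⊥ := fun h => hAne ((Subgroup.map_eq_bot_iff_of_injective _ N.subtype_injective).1 h)
  obtain ⟨p, hp, hpB⟩ := Nat.exists_prime_and_dvd fun h => hBne (Subgroup.card_eq_one.1 h)
  haveI := Fact.mk hp
  obtain ⟨g, hg⟩ := exists_prime_orderOf_dvd_card' (G := B) p hpB
  let E : Subgroup G :=
    { carrier := {x | x ∈ B ∧ x ^ p = 1}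
      one_mem' := ⟨one_mem _, one_pow _⟩
      mul_mem' := fun {a b} ha hb => ⟨mul_mem ha.1 hb.1, by
        rw [Commute.mul_pow (hBab a ha.1 b hb.1), ha.2, hb.2, one_mul]⟩
      inv_mem' := fun {a} ha => ⟨inv_mem ha.1, by rw [inv_pow, ha.2, inv_one]⟩ }
  have hmem : ∀ x, x ∈ E ↔ x ∈ B ∧ x ^ p = 1 := fun x => Iff.rfl
  refine ⟨p, E, hp, ⟨fun x hx c => ⟨hBn.conj_mem x hx.1 c, by rw [conj_pow, hx.2]; group⟩⟩, fun h => ?_,
    fun a ha b hb => hBab a ha.1 b hb.1, fun a ha => ha.2⟩
  have : (g : G) ∈ E := ⟨g.2, by rw [← SubmonoidClass.coe_pow, ← hg, pow_orderOf_eq_one]; rfl⟩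
  rw [h, Subgroup.mem_bot, ← Subgroup.coe_one B, Subtype.coe_inj] at this
  rw [this, orderOf_one] at hg
  exact hp.one_lt.ne hg

/-- A group of automorphisms of a group of order 3, 5, 7 or 9 is solvable. -/
theorem solvable_aut_of_card {V : Type*} [Group V] [Finite V] {q e : ℕ} (hq : q.Prime)
    (hV : Nat.card V = q ^ e) (h : q ^ e ∣ 9 ∨ q ^ e ∣ 5 ∨ q ^ e ∣ 7)
    {A : Type*} [Group A] [Finite A] (ρ : A →* MulAut V) (hρ : Function.Injective ρ) :
    Group.IsSolvable A := by
  obtain ⟨a, m, hm, hAm⟩ := Nat.exists_eq_pow_mul_and_not_dvd (Nat.card_pos (α := A)).ne' 2 (by norm_num)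
  have hm0 : m ≠ 0 := fun h0 => hm (h0 ▸ dvd_zero 2)
  obtain ⟨b, r, hr, hmr⟩ := Nat.exists_eq_pow_mul_and_not_dvd hm0 3 (by norm_num)
  obtain rfl : r = 1 := by
    by_contra hr1
    obtain ⟨p, hp, hpr⟩ := Nat.exists_prime_and_dvd hr1
    have hpm : p ∣ m := hmr ▸ hpr.mul_left _
    haveI : Fact p.Prime := ⟨hp⟩
    obtain ⟨g, hg⟩ := exists_prime_orderOf_dvd_card' (G := A) p (hAm ▸ hpm.mul_left _)
    have hσp : ρ g ^ p = 1 := by rw [← map_pow, ← hg, pow_orderOf_eq_one, map_one]
    have hmod := ThreeInvol.card_fixed_modEq_prime hσp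
    have hle : Nat.card V ≤ 9 := by
      rw [hV]
      rcases h with h | h | h <;> have := Nat.le_of_dvd (by norm_num) h <;> omega
    have hp2 : p ≠ 2 := fun e => hm (e ▸ hpm)
    have hp3 : p ≠ 3 := fun e => hr (e ▸ hpr)
    have hlt : Nat.card (ThreeInvol.fixedSubgroup (ρ g)) < Nat.card V := by
      refine lt_of_le_of_ne (Subgroup.card_le_card_group _) fun e => ?_
      have htop := Subgroup.eq_top_of_card_eq _ e
      have : g = 1 := hρ (MulEquiv.ext fun v => by
        rw [map_one]
        exact (htop ▸ Subgroup.mem_top v : v ∈ ThreeInvol.fixedSubgroup (ρ g)))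
      rw [this, orderOf_one] at hg
      exact hp.one_lt.ne hg
    have hd := Subgroup.card_subgroup_dvd_card (ThreeInvol.fixedSubgroup (ρ g))
    have hpos : 0 < Nat.card (ThreeInvol.fixedSubgroup (ρ g)) := Nat.card_pos
    have hpd : p ∣ Nat.card V - Nat.card (ThreeInvol.fixedSubgroup (ρ g)) :=
      (Nat.modEq_iff_dvd' hlt.le).1 hmod.symm
    have hple : p ≤ 9 := (Nat.le_of_dvd (Nat.sub_pos_of_lt hlt) hpd).trans ((Nat.sub_le _ _).trans hle)
    have key : ∀ n ∈ [1, 3, 5, 7, 9], ∀ k ∈ List.range n, k ∣ n → ¬ 5 ∣ n - k ∧ ¬ 7 ∣ n - k := by decide +kernel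
    have hn : Nat.card V ∈ [1, 3, 5, 7, 9] := by
      have h' : ∀ n : ℕ, n < 10 → (n ∣ 9 ∨ n ∣ 5 ∨ n ∣ 7) → n ∈ [1, 3, 5, 7, 9] := by decide +kernel
      exact h' _ (by omega) (hV ▸ h)
    have hp57 : p = 5 ∨ p = 7 := by
      have := hp.two_le
      interval_cases p <;> first | omega | (norm_num at hp)
    obtain ⟨k5, k7⟩ := key _ hn _ (List.mem_range.2 hlt) hd
    rcases hp57 with e | e
    · exact k5 (e ▸ hpd)
    · exact k7 (e ▸ hpd)
  exact CharInt.isSolvable_of_card_eq Nat.prime_two Nat.prime_three (a := a) (b := b)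
    (by rw [hAm, hmr, mul_one])

/-- Elements of prime order `3, 5, 7` of `S_8` with centraliser not too small. -/
theorem card_fixed_of_centralizer {x : Perm (Fin 8)} {p : ℕ} (hp : p.Prime) (hp2 : p ≠ 2)
    (hx : orderOf x = p) (h : 60 ≤ Nat.card (Subgroup.centralizer {x})) :
    p = 3 ∧ x.cycleType = {3} := by
  haveI := Fact.mk hp
  obtain ⟨n, hn⟩ := Equiv.Perm.cycleType_prime_order (hx ▸ hp)
  rw [hx] at hn
  have hsum := Equiv.Perm.sum_cycleType x
  have hsupp : x.support.card ≤ 8 := by simpa using Finset.card_le_univ x.support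
  have hbound : (n + 1) * p ≤ 8 := by
    rw [hn, Multiset.sum_replicate, smul_eq_mul] at hsum
    omega
  have hc := Equiv.Perm.nat_card_centralizer x
  rw [hn] at hc
  have hp3 : 3 ≤ p := by have := hp.two_le; omega
  have hn2 : n < 2 := by nlinarith
  have hp8 : p ≤ 8 := by nlinarith
  rw [hn]
  interval_cases p <;> (try norm_num at hp) <;> interval_cases n <;>
    first
      | omega
      | exact ⟨rfl, rfl⟩
      | (exfalso; rw [hc] at h; revert h; decide)

/-- The fixed points of a 3-cycle of `S_8`. -/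
theorem card_fixedBy_of_three {x : Perm (Fin 8)} (hx : x.cycleType = {3}) :
    Nat.card {a : Fin 8 // x a = a} = 5 := by
  have hs := Equiv.Perm.sum_cycleType x
  rw [hx] at hs
  simp at hs
  rw [Nat.card_eq_fintype_card, Fintype.card_subtype]
  have h1 : (Finset.univ.filter fun a => x a = a) = x.supportᶜ := by ext a; simp
  rw [h1, Finset.card_compl, ← hs]
  rfl

/-- A normal elementary abelian subgroup of a non-solvable subgroup of `A_8` without normal 2-subgroup
has order 3 and consists of 3-cycles. -/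
theorem normal_elementary [Finite G] (f : G →* alternatingGroup (Fin 8)) (hf : Function.Injective f)
    (hns : ¬ Group.IsSolvable G) (h2 : Cfsg.pCore 2 G = ⊥) {p : ℕ} (hp : p.Prime) (E : Subgroup G)
    [E.Normal] (hne : E ≠ ⊥) (hcomm : ∀ a ∈ E, ∀ b ∈ E, a * b = b * a) (hexp : ∀ a ∈ E, a ^ p = 1) :
    Nat.card E = 3 ∧ ∀ a ∈ E, a ≠ 1 → ((f a : alternatingGroup (Fin 8)) : Perm (Fin 8)).cycleType = {3} := by
  haveI := Fact.mk hp
  have hEp : IsPGroup p E := fun a => ⟨1, Subtype.ext (by simpa using hexp a a.2)⟩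
  have hp2 : p ≠ 2 := by
    rintro rfl
    exact hne (le_bot_iff.1 (h2 ▸ PCore.le_pCore hEp))
  obtain ⟨k, hk⟩ := IsPGroup.iff_card.1 hEp
  have hk0 : k ≠ 0 := fun e => hne (Subgroup.card_eq_one.1 (by rw [hk, e, pow_zero]))
  have hd : p ^ k ∣ 20160 := hk ▸ E.card_subgroup_dvd_card.trans (card_dvd f hf)
  have hpd : p ∣ 20160 := (dvd_pow_self p hk0).trans hd
  have hpk : p ^ k ∣ 9 ∨ p ^ k ∣ 5 ∨ p ^ k ∣ 7 := by
    have hp357 : p = 3 ∨ p = 5 ∨ p = 7 := by
      have h' : p ∣ 2 ^ 6 * (3 ^ 2 * (5 * 7)) := hpd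
      rcases (Nat.Prime.dvd_mul hp).1 h' with h | h
      · exact absurd ((Nat.prime_dvd_prime_iff_eq hp Nat.prime_two).1 (hp.dvd_of_dvd_pow h)) hp2
      rcases (Nat.Prime.dvd_mul hp).1 h with h | h
      · exact Or.inl ((Nat.prime_dvd_prime_iff_eq hp Nat.prime_three).1 (hp.dvd_of_dvd_pow h))
      rcases (Nat.Prime.dvd_mul hp).1 h with h | h
      · exact Or.inr (Or.inl ((Nat.prime_dvd_prime_iff_eq hp (by norm_num)).1 h))
      · exact Or.inr (Or.inr ((Nat.prime_dvd_prime_iff_eq hp (by norm_num)).1 h))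
    rcases hp357 with rfl | rfl | rfl
    · left
      have : k ≤ 2 := by
        by_contra hc
        exact absurd ((pow_dvd_pow 3 (show 3 ≤ k by omega)).trans hd) (by norm_num)
      exact (pow_dvd_pow 3 this).trans (by norm_num)
    · right; left
      have : k ≤ 1 := by
        by_contra hc
        exact absurd ((pow_dvd_pow 5 (show 2 ≤ k by omega)).trans hd) (by norm_num)
      exact (pow_dvd_pow 5 this).trans (by norm_num)
    · right; right
      have : k ≤ 1 := by
        by_contra hc
        exact absurd ((pow_dvd_pow 7 (show 2 ≤ k by omega)).trans hd) (by norm_num)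
      exact (pow_dvd_pow 7 this).trans (by norm_num)
  let act : G →* MulAut E := MulAut.conjNormal
  have hact : ¬ Group.IsSolvable act.ker := fun hs => by
    haveI := hs
    haveI : Group.IsSolvable act.range :=
      solvable_aut_of_card hp hk hpk act.range.subtype act.range.subtype_injective
    exact hns (Group.isSolvable_of_ker_le_range act.ker.subtype act.rangeRestrict (by simp))
  have hcyc : ∀ a ∈ E, a ≠ 1 → p = 3 ∧ ((f a : alternatingGroup (Fin 8)) : Perm (Fin 8)).cycleType = {3} := by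
    intro a ha ha1
    let f' : G →* Perm (Fin 8) := (alternatingGroup (Fin 8)).subtype.comp f
    have hf' : Function.Injective f' := (alternatingGroup (Fin 8)).subtype_injective.comp hf
    refine card_fixed_of_centralizer (x := f' a) hp hp2 ((orderOf_injective f' hf' a).trans (orderOf_eq_prime (hexp a ha) ha1)) ?_
    by_contra hlt
    change ¬ 60 ≤ Nat.card (Subgroup.centralizer {f' a}) at hlt
    have hmem : ∀ g : act.ker, f' g ∈ Subgroup.centralizer {f' a} := fun g => by
      rw [Subgroup.mem_centralizer_singleton_iff, ← map_mul, ← map_mul]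
      have := congrArg Subtype.val (DFunLike.congr_fun g.2 ⟨a, ha⟩)
      exact congrArg f' (eq_mul_of_mul_inv_eq this)
    let r : act.ker →* Subgroup.centralizer {f' a} := (f'.comp act.ker.subtype).codRestrict _ hmem
    have hr : Function.Injective r := fun u v e => by
      have e' : (r u).val = (r v).val := by rw [e]
      exact Subtype.ext (hf' e')
    have hle := Nat.card_le_card_of_injective r hr
    exact hact (isSolvable_of_card_le_hundred act.ker (by omega) (by omega))
  refine ⟨?_, fun a ha ha1 => (hcyc a ha ha1).2⟩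
  obtain ⟨a, ha, ha1⟩ : ∃ a ∈ E, a ≠ 1 := by
    by_contra h
    push Not at h
    exact hne ((Subgroup.eq_bot_iff_forall E).2 h)
  obtain rfl : p = 3 := (hcyc a ha ha1).1
  rcases hpk with h | h | h
  · obtain ⟨j, hj, hj'⟩ := (Nat.dvd_prime_pow Nat.prime_three (m := 2)).1 h
    rw [Nat.pow_right_injective (by norm_num : 2 ≤ 3) hj'] at hk
    interval_cases j
    · exact absurd (Subgroup.card_eq_one.1 hk) hne
    · simpa using hk
    · exfalso
      -- Burnside's count for `E` acting on 8 points
      classical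
      let φ : E →* Perm (Fin 8) := ((alternatingGroup (Fin 8)).subtype.comp f).comp E.subtype
      letI : MulAction E (Fin 8) := MulAction.compHom (Fin 8) φ
      haveI : Fintype E := Fintype.ofFinite E
      have hb := MulAction.sum_card_fixedBy_eq_card_orbits_mul_card_group E (Fin 8)
      have hterm : ∀ e : E, Fintype.card (MulAction.fixedBy (Fin 8) e) = if e = 1 then 8 else 5 := by
        intro e
        rw [← Nat.card_eq_fintype_card]
        split_ifs with he
        · subst he
          rw [show (MulAction.fixedBy (Fin 8) (1 : E)) = Set.univ from Set.eq_univ_of_forall fun x => one_smul E x, Nat.card_univ, Nat.card_fin]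
        · rw [← card_fixedBy_of_three (hcyc e e.2 fun h => he (Subtype.ext h)).2]
          exact Nat.card_congr (Equiv.refl _)
      rw [Finset.sum_congr rfl fun e _ => hterm e, Finset.sum_ite, Finset.filter_eq' Finset.univ (1 : E),
        if_pos (Finset.mem_univ _), Finset.sum_const, Finset.sum_const, Finset.card_singleton,
        Finset.filter_ne' Finset.univ (1 : E), Finset.card_erase_of_mem (Finset.mem_univ _), Finset.card_univ,
        ← Nat.card_eq_fintype_card (α := E), hk] at hb
      simp only [smul_eq_mul] at hb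
      omega
  all_goals
    exfalso
    rcases k with _ | k
    · exact hk0 rfl
    · have := (dvd_pow_self 3 (Nat.succ_ne_zero k)).trans h
      norm_num at this

/-- The elements of `A_8` fixing the fixed points of a 3-cycle are its powers. -/
theorem solvable_fix {x : Perm (Fin 8)} (hx : x.cycleType = {3}) {K : Type*} [Group K] [Finite K]
    (φ : K →* alternatingGroup (Fin 8)) (hφ : Function.Injective φ)
    (hfix : ∀ k a, x a = a → (φ k : Perm (Fin 8)) a = a) : Nat.card K ≤ 3 := by
  have hs := Equiv.Perm.sum_cycleType x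
  rw [hx] at hs
  simp at hs
  have hsupp : ∀ k a, (φ k : Perm (Fin 8)) a ≠ a → a ∈ x.support := fun k a h =>
    Equiv.Perm.mem_support.2 fun e => h (hfix k a e)
  let r : K →* Perm {a // a ∈ x.support} :=
    { toFun := fun k => (φ k : Perm (Fin 8)).subtypePerm (p := fun a => a ∈ x.support) (fun a => by
        constructor
        · intro h
          by_contra ha
          have := hfix k a (Equiv.Perm.notMem_support.1 ha)
          rw [this] at h
          exact ha h
        · intro h
          by_contra ha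
          have hthis := hfix k _ (Equiv.Perm.notMem_support.1 ha)
          rw [(φ k : Perm (Fin 8)).injective hthis] at ha
          exact ha h)
      map_one' := Equiv.ext fun a => Subtype.ext (by simp)
      map_mul' := fun k l => Equiv.ext fun a => Subtype.ext (by simp [Equiv.Perm.subtypePerm, Equiv.Perm.mul_apply]) }
  have hr : Function.Injective r := by
    intro k l e
    refine hφ (Subtype.ext (Equiv.ext fun a => ?_))
    by_cases ha : a ∈ x.support
    · exact congrArg Subtype.val (Equiv.congr_fun e ⟨a, ha⟩)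
    · rw [hfix k a (Equiv.Perm.notMem_support.1 ha), hfix l a (Equiv.Perm.notMem_support.1 ha)]
  have hc := Subgroup.card_dvd_of_injective r hr
  rw [Nat.card_perm, Nat.card_eq_fintype_card (α := {a // a ∈ x.support}), Fintype.card_coe, ← hs] at hc
  have hodd : ¬ 2 ∣ Nat.card K := by
    intro h
    haveI : Fact (Nat.Prime 2) := ⟨Nat.prime_two⟩
    obtain ⟨y, hy⟩ := exists_prime_orderOf_dvd_card' (G := K) 2 h
    have ho : orderOf (φ y : Perm (Fin 8)) = 2 := by rw [Subgroup.orderOf_coe, orderOf_injective φ hφ, hy]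
    obtain ⟨n, hn⟩ := Equiv.Perm.cycleType_prime_order (ho ▸ Nat.prime_two)
    rw [ho] at hn
    have hcard : (φ y : Perm (Fin 8)).support.card ≤ 3 := hs ▸ Finset.card_le_card fun a ha =>
      hsupp y a (Equiv.Perm.mem_support.1 ha)
    rw [← Equiv.Perm.sum_cycleType, hn, Multiset.sum_replicate, smul_eq_mul] at hcard
    have hn0 : n = 0 := by omega
    have hsign : Equiv.Perm.sign (φ y : Perm (Fin 8)) = 1 := Equiv.Perm.mem_alternatingGroup.1 (φ y).2
    rw [Equiv.Perm.sign_of_cycleType, hn, hn0] at hsign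
    exact absurd hsign (by decide)
  have key : ∀ d < 7, d ∣ Nat.factorial 3 → ¬ 2 ∣ d → d ≤ 3 := by decide
  exact key _ (Nat.lt_succ_of_le (Nat.le_of_dvd (Nat.factorial_pos 3) hc)) hc hodd

/-- Non-solvable subgroups of `A_8` without normal 2-subgroup. -/
theorem good_or_core_three [Finite G] (f : G →* alternatingGroup (Fin 8)) (hf : Function.Injective f)
    (hns : ¬ Group.IsSolvable G) (h2 : Cfsg.pCore 2 G = ⊥) :
    Good G ∨ (Nat.card (Cfsg.pCore 3 G) = 3 ∧
      (Nonempty (G ⧸ Cfsg.pCore 3 G ≃* alternatingGroup (Fin 5)) ∨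
        Nonempty (G ⧸ Cfsg.pCore 3 G ≃* Perm (Fin 5)))) := by
  by_cases hg : Good G
  · exact Or.inl hg
  right
  obtain ⟨p, E, hp, hE, hne, hcomm, hexp⟩ := exists_normal_elementary_of_not_good hg
  haveI := hE
  obtain ⟨hE3, hcyc⟩ := normal_elementary f hf hns h2 hp E hne hcomm hexp
  haveI : Fact (Nat.Prime 3) := ⟨Nat.prime_three⟩
  have hEle : E ≤ Cfsg.pCore 3 G := PCore.le_pCore (IsPGroup.of_card (n := 1) (by rw [hE3, pow_one]))
  set P := Cfsg.pCore 3 G with hP
  obtain ⟨j, hj⟩ := IsPGroup.iff_card.1 (PCore.isPGroup_pCore (p := 3) (G := G))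
  have hj2 : j ≤ 2 := by
    by_contra hc
    exact absurd ((pow_dvd_pow 3 (show 3 ≤ j by omega)).trans (hj ▸ P.card_subgroup_dvd_card.trans (card_dvd f hf)))
      (by norm_num)
  have hPne : P ≠ ⊥ := fun e => hne (le_bot_iff.1 (e ▸ hEle))
  have hPc : ∀ a ∈ P, ∀ b ∈ P, a * b = b * a := by
    intro a ha b hb
    have key : ∀ a b : P, a * b = b * a := by
      interval_cases j
      · exact absurd (Subgroup.card_eq_one.1 (by simpa using hj)) hPne
      · haveI : IsCyclic P := isCyclic_of_prime_card (by simpa using hj)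
        exact fun a b => (IsCyclic.commGroup (α := P)).mul_comm a b
      · exact fun a b => (IsPGroup.isMulCommutative_of_card_eq_prime_sq hj).is_comm.comm a b
    exact congrArg Subtype.val (key ⟨a, ha⟩ ⟨b, hb⟩)
  have hP3 := (normal_elementary f hf hns h2 Nat.prime_three P hPne hPc fun a ha => by
    obtain ⟨i, hi⟩ := (PCore.isPGroup_pCore (p := 3) (G := G)) ⟨a, ha⟩
    have hdvd : orderOf a ∣ 3 ^ i := orderOf_dvd_of_pow_eq_one (congrArg Subtype.val hi)
    obtain ⟨l, -, hl⟩ := (Nat.dvd_prime_pow Nat.prime_three).1 hdvd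
    have := orderOf_mem f hf a
    rw [hl] at this
    refine orderOf_dvd_iff_pow_eq_one.1 (hl ▸ ?_)
    rcases l with _ | _ | l
    · norm_num
    · norm_num
    · exfalso
      have h9 : 3 ^ 2 ∣ 3 ^ (l + 1 + 1) := pow_dvd_pow 3 (by omega)
      simp only [List.mem_cons, List.not_mem_nil, or_false] at this
      omega).1
  have hPE : E = P := Subgroup.eq_of_le_of_card_ge hEle (by rw [hE3, hP3])
  refine ⟨hP3, ?_⟩
  obtain ⟨e0, he0, he1⟩ : ∃ a ∈ E, a ≠ 1 := by
    by_contra h
    push Not at h
    exact hne ((Subgroup.eq_bot_iff_forall E).2 h)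
  set f' : G →* Perm (Fin 8) := (alternatingGroup (Fin 8)).subtype.comp f with hf'd
  set x := f' e0 with hxd
  have hx : x.cycleType = {3} := hcyc e0 he0 he1
  have hpow : ∀ a ∈ E, a ∈ Subgroup.zpowers e0 := fun a ha => by
    have hz : Subgroup.zpowers e0 = E := Subgroup.eq_of_le_of_card_ge (Subgroup.zpowers_le.2 he0)
      (by rw [hE3, Nat.card_zpowers, ((Nat.dvd_prime Nat.prime_three).1 (hE3 ▸ E.orderOf_dvd_natCard he0)).resolve_left
        (mt orderOf_eq_one_iff.1 he1)])
    rw [hz]; exact ha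
  have hinv : ∀ (g : G) (a : Fin 8), x a = a → x (f' g a) = f' g a := by
    intro g a ha
    obtain ⟨m, hm⟩ := Subgroup.mem_zpowers_iff.1 (hpow _ (hE.conj_mem' e0 he0 g))
    have h1 : f' g⁻¹ * x * f' g = x ^ m := by rw [hxd, ← map_mul, ← map_mul, ← map_zpow, hm]
    have h2 : (f' g⁻¹ * x * f' g) a = a := by
      rw [h1]; exact Equiv.Perm.zpow_apply_eq_self_of_apply_eq_self ha m
    rw [Equiv.Perm.mul_apply, Equiv.Perm.mul_apply, map_inv, Equiv.Perm.inv_eq_iff_eq] at h2
    exact h2
  let r : G →* Perm {a : Fin 8 // x a = a} :=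
    { toFun := fun g => (f' g).subtypePerm (p := fun a => x a = a) (fun a => by
        refine ⟨fun h => ?_, hinv g a⟩
        have := hinv g⁻¹ _ h
        simpa using this)
      map_one' := Equiv.ext fun a => Subtype.ext (by simp)
      map_mul' := fun k l => Equiv.ext fun a => Subtype.ext (by simp [Equiv.Perm.subtypePerm, Equiv.Perm.mul_apply]) }
  have hker : r.ker = E := by
    have hle : E ≤ r.ker := fun a ha => by
      obtain ⟨m, rfl⟩ := Subgroup.mem_zpowers_iff.1 (hpow a ha)
      rw [MonoidHom.mem_ker]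
      refine Equiv.ext fun b => Subtype.ext ?_
      show f' (e0 ^ m) b = b
      rw [map_zpow]
      exact Equiv.Perm.zpow_apply_eq_self_of_apply_eq_self b.2 m
    refine (Subgroup.eq_of_le_of_card_ge hle ?_).symm
    rw [hE3]
    refine solvable_fix hx (f.comp r.ker.subtype) (hf.comp r.ker.subtype_injective) fun k a ha => ?_
    exact congrArg Subtype.val (Equiv.congr_fun (MonoidHom.mem_ker.1 k.2) ⟨a, ha⟩)
  have hR : ¬ Group.IsSolvable r.range := fun hs => by
    haveI := hs
    haveI : Group.IsSolvable r.ker := by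
      haveI : IsMulCommutative E := ⟨⟨fun a b => Subtype.ext (hcomm a a.2 b b.2)⟩⟩
      rw [hker]
      exact Group.isSolvable_of_comm fun a b => Subtype.ext (hcomm a a.2 b b.2)
    exact hns (Group.isSolvable_of_ker_le_range r.ker.subtype r.rangeRestrict (by simp))
  obtain ⟨e5⟩ : Nonempty ({a : Fin 8 // x a = a} ≃ Fin 5) :=
    ⟨Finite.equivFinOfCardEq (card_fixedBy_of_three hx)⟩
  let s : r.range →* Perm (Fin 5) := e5.permCongrHom.toMonoidHom.comp r.range.subtype
  have hs : Function.Injective s := e5.permCongrHom.injective.comp r.range.subtype_injective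
  have hd := Subgroup.card_dvd_of_injective s hs
  rw [Nat.card_perm, Nat.card_fin] at hd
  have key : ∀ d < 121, d ∣ 120 → 100 < d ∨ d = 60 ∨ (d ≤ 100 ∧ d ≠ 60) := by decide +kernel
  obtain ⟨q⟩ : Nonempty (G ⧸ P ≃* r.range) :=
    ⟨(QuotientGroup.quotientMulEquivOfEq (hPE.symm.trans hker.symm)).trans (QuotientGroup.quotientKerEquivRange r)⟩
  rcases key _ (Nat.lt_succ_of_le (Nat.le_of_dvd (by norm_num) hd)) hd with h | h | h
  · right
    have key' : ∀ d < 121, d ∣ 120 → 100 < d → d = 120 := by decide +kernel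
    obtain ⟨i⟩ := nonempty_equiv_of_card s hs (by
      rw [key' _ (Nat.lt_succ_of_le (Nat.le_of_dvd (by norm_num) hd)) hd h, Nat.card_perm, Nat.card_fin]; rfl)
    exact ⟨q.trans i⟩
  · left
    obtain ⟨i⟩ := nonempty_equiv_alternating s hs (by rw [h]; rfl)
    exact ⟨q.trans i⟩
  · exact absurd (isSolvable_of_card_le_hundred r.range h.1 h.2) hR

end Cfsg.Agent.A8Sub
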