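import Mathlib
import Cfsg.Prelude.Def_CaseTheorems
import Cfsg.Agent.Lib.ThreeInvol.Solvable

/-!
An extension of a group containing `S_6` by a faithful module of order 16 has sectional 2-rank at
least 5.
-/

set_option autoImplicit false
set_option linter.style.haveILetI false

namespace Cfsg.Agent.A8Sub.RankFive

open Equiv ThreeInvol

/-- A product of disjoint cycles of `Fin 6`. -/
def cy (l : List (List (Fin 6))) : Perm (Fin 6) := (l.map List.formPerm).prod

/-- the element `(0 1 2)(3 4 5)` -/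
def sA : Perm (Fin 6) := cy [[0, 1, 2], [3, 4, 5]]

/-- the element `(0 1 2)` -/
def sB : Perm (Fin 6) := cy [[0, 1, 2]]

/-- three commuting involutions attached to `sA` -/
def nA : Fin 3 → Perm (Fin 6) :=
  ![cy [[0, 1], [2, 3], [4, 5]], cy [[0, 1], [2, 4], [3, 5]], cy [[0, 1], [2, 5], [3, 4]]]

/-- three commuting involutions attached to `sB` -/
def nB : Fin 3 → Perm (Fin 6) := ![cy [[0, 1]], cy [[2, 3]], cy [[4, 5]]]

/-- the product of selected members -/
def sel (n : Fin 3 → Perm (Fin 6)) (e : Bool × Bool × Bool) : Perm (Fin 6) :=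
  (if e.1 then n 0 else 1) * (if e.2.1 then n 1 else 1) * (if e.2.2 then n 2 else 1)

/-- The facts used about `σ` and the three involutions. -/
structure Data (σ : Perm (Fin 6)) (n : Fin 3 → Perm (Fin 6)) : Prop where
  sq : ∀ i, n i * n i = 1
  three : σ ^ 3 = 1
  comm : ∀ i j, n i * n j = n j * n i
  sel_inj : ∀ e e', sel n e = sel n e' → e = e'
  cent : ∀ i, ∃ c, n i * (c * σ * c⁻¹) = c * σ * c⁻¹ * n i
  pair : ∀ i j, i < j → ∃ h c, h * n j = n j * h ∧ n i * (h * n i * h⁻¹) = c * σ * c⁻¹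

theorem data_A : Data sA nA where
  sq := by decide +kernel
  three := by decide +kernel
  comm := by decide +kernel
  sel_inj := by decide +kernel
  cent := fun i => by
    fin_cases i
    · exact ⟨cy [[1, 2, 4, 3]], by decide +kernel⟩
    · exact ⟨cy [[1, 2, 3]], by decide +kernel⟩
    · exact ⟨cy [[1, 2, 3], [4, 5]], by decide +kernel⟩
  pair := fun i j hij => by
    fin_cases i <;> fin_cases j <;> first | (exact absurd hij (by decide)) | skip
    · exact ⟨cy [[0, 2], [1, 4]], cy [[1, 2, 5, 3]], by decide +kernel, by decide +kernel⟩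
    · exact ⟨cy [[0, 2], [1, 5]], cy [[1, 2, 4, 5, 3]], by decide +kernel, by decide +kernel⟩
    · exact ⟨cy [[0, 2], [1, 5]], cy [[1, 2, 3], [4, 5]], by decide +kernel, by decide +kernel⟩

theorem data_B : Data sB nB where
  sq := by decide +kernel
  three := by decide +kernel
  comm := by decide +kernel
  sel_inj := by decide +kernel
  cent := fun i => by
    fin_cases i
    · exact ⟨cy [[0, 2, 4, 1, 3]], by decide +kernel⟩
    · exact ⟨cy [[2, 4, 3]], by decide +kernel⟩
    · exact ⟨1, by decide +kernel⟩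
  pair := fun i j hij => by
    fin_cases i <;> fin_cases j <;> first | (exact absurd hij (by decide)) | skip
    · exact ⟨cy [[1, 4]], cy [[1, 4, 3, 2]], by decide +kernel, by decide +kernel⟩
    · exact ⟨cy [[1, 2]], cy [[1, 2]], by decide +kernel, by decide +kernel⟩
    · exact ⟨cy [[1, 2]], cy [[0, 1, 2, 3]], by decide +kernel, by decide +kernel⟩

variable {V : Type*} [CommGroup V] [Finite V]

theorem card_fixed_four (ρ : Perm (Fin 6) →* MulAut V) (hρ : Function.Injective ρ) (h16 : Nat.card V = 16)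
    {g : Perm (Fin 6)} (hg : g ^ 3 = 1) (hg1 : g ≠ 1) (hnot : ¬ ∀ x, ρ g x = x → x = 1) :
    Nat.card (fixedSubgroup (ρ g)) = 4 := by
  haveI : Fact (Nat.Prime 3) := ⟨Nat.prime_three⟩
  have hmod : Nat.card V ≡ Nat.card (fixedSubgroup (ρ g)) [MOD 3] :=
    card_fixed_modEq_prime (σ := ρ g) (by rw [← map_pow, hg, map_one])
  have hd := Subgroup.card_subgroup_dvd_card (fixedSubgroup (ρ g))
  rw [h16] at hmod hd
  have hne1 : Nat.card (fixedSubgroup (ρ g)) ≠ 1 := fun e => hnot fun x hx => by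
    have hm : x ∈ fixedSubgroup (ρ g) := hx
    rwa [Subgroup.card_eq_one.1 e, Subgroup.mem_bot] at hm
  have hne16 : Nat.card (fixedSubgroup (ρ g)) ≠ 16 := fun e => hg1 (hρ (MulEquiv.ext fun x => by
    have htop := Subgroup.eq_top_of_card_eq _ (e.trans h16.symm)
    rw [map_one]
    exact (htop ▸ Subgroup.mem_top x : x ∈ fixedSubgroup (ρ g))))
  have key : ∀ d ∈ List.range 17, d ∣ 16 → 16 % 3 = d % 3 → d = 1 ∨ d = 4 ∨ d = 16 := by decide
  rcases key _ (List.mem_range.2 (Nat.lt_succ_of_le (Nat.le_of_dvd (by norm_num) hd))) hd hmod with h | h | h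
  · exact absurd h hne1
  · exact h
  · exact absurd h hne16

omit [Finite V] in
/-- An element of order 3 fixing a coset of its fixed points fixes it pointwise. -/
theorem fixed_of_coset (ρ : Perm (Fin 6) →* MulAut V) (hV : ∀ v : V, v * v = 1) {g : Perm (Fin 6)}
    (hg : g ^ 3 = 1) {x : V} (hf : x * ρ g x ∈ fixedSubgroup (ρ g)) : ρ g x = x := by
  have hf' : ρ g (x * ρ g x) = x * ρ g x := hf
  rw [map_mul] at hf'
  have h2 : ρ g (ρ g x) = x := by
    calc ρ g (ρ g x) = (ρ g x * ρ g x) * ρ g (ρ g x) := by rw [hV, one_mul]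
      _ = ρ g x * (ρ g x * ρ g (ρ g x)) := mul_assoc _ _ _
      _ = ρ g x * (x * ρ g x) := by rw [hf']
      _ = x * (ρ g x * ρ g x) := mul_left_comm _ _ _
      _ = x := by rw [hV, mul_one]
  have h3 : ρ g (ρ g (ρ g x)) = x := by
    rw [← MulAut.mul_apply, ← MulAut.mul_apply, ← map_mul, ← map_mul,
      show g * g * g = g ^ 3 by simp [pow_succ], hg, map_one, MulAut.one_apply]
  rwa [h2] at h3

/-- One of `(0 1 2)(3 4 5)`, `(0 1 2)` acts without fixed points. -/
theorem fixedPointFree_or (ρ : Perm (Fin 6) →* MulAut V) (hρ : Function.Injective ρ) (h16 : Nat.card V = 16)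
    (hV : ∀ v : V, v * v = 1) :
    (∀ x, ρ sA x = x → x = 1) ∨ (∀ x, ρ sB x = x → x = 1) := by
  by_contra hcon
  push Not at hcon
  obtain ⟨⟨a, ha, ha1⟩, b, hb, hb1⟩ := hcon
  set s := cy [[0, 1, 2]] with hs
  set t := cy [[3, 4, 5]] with ht
  have hst : s * t = t * s := by decide +kernel
  have hconj : ∀ (u g c : Perm (Fin 6)), g = c * u * c⁻¹ → u ^ 3 = 1 → u ≠ 1 → (∃ x, ρ u x = x ∧ x ≠ 1) →
      g ^ 3 = 1 ∧ g ≠ 1 ∧ Nat.card (fixedSubgroup (ρ g)) = 4 := by
    rintro u g c rfl hu hu1 ⟨x, hx, hx1⟩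
    have h3 : (c * u * c⁻¹) ^ 3 = 1 := by rw [conj_pow, hu]; group
    have h1 : c * u * c⁻¹ ≠ 1 := fun e => hu1 (by
      have := congrArg (fun g => c⁻¹ * g * c) e
      simpa [mul_assoc] using this)
    refine ⟨h3, h1, card_fixed_four ρ hρ h16 h3 h1 fun h => hx1 ?_⟩
    have h' := h (ρ c x) (by
      rw [← MulAut.mul_apply, ← map_mul, inv_mul_cancel_right, map_mul, MulAut.mul_apply, hx])
    exact (map_eq_one_iff _ (ρ c).injective).1 h'
  have hB := hconj sB s 1 (by rw [one_mul, inv_one, mul_one]; rfl) (by decide +kernel) (by decide +kernel) ⟨b, hb, hb1⟩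
  have hB' := hconj sB t (cy [[0, 3], [1, 4], [2, 5]]) (by decide +kernel) (by decide +kernel) (by decide +kernel) ⟨b, hb, hb1⟩
  have hA := hconj sA (s * t) 1 (by decide +kernel) (by decide +kernel) (by decide +kernel) ⟨a, ha, ha1⟩
  have hA' := hconj sA (s * t⁻¹) (cy [[4, 5]]) (by decide +kernel) (by decide +kernel) (by decide +kernel) ⟨a, ha, ha1⟩
  set F := fixedSubgroup (ρ s) with hF
  have hmem : ∀ g x, x ∈ fixedSubgroup (ρ g) ↔ ρ g x = x := fun g x => Iff.rfl
  have htF : ∀ x ∈ F, ρ t x ∈ F := fun x hx => by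
    rw [hF, hmem] at hx ⊢
    rw [← MulAut.mul_apply, ← map_mul, hst, map_mul, MulAut.mul_apply, hx]
  -- the two fixed spaces coincide
  have hFt : ∀ x ∈ F, ρ t x = x := by
    by_contra hc
    push Not at hc
    obtain ⟨x0, hx0, hx0'⟩ := hc
    -- `t` has no fixed point in `F`
    have hFF : F ⊓ fixedSubgroup (ρ t) = ⊥ := by
      by_contra hne
      have hd : Nat.card (F ⊓ fixedSubgroup (ρ t) : Subgroup V) ∣ 4 := hB.2.2 ▸ Subgroup.card_dvd_of_le inf_le_left
      have h1 : Nat.card (F ⊓ fixedSubgroup (ρ t) : Subgroup V) ≠ 1 := fun e => hne (Subgroup.card_eq_one.1 e)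
      have h4 : Nat.card (F ⊓ fixedSubgroup (ρ t) : Subgroup V) ≠ 4 := fun e => hx0' (by
        have := Subgroup.eq_of_le_of_card_ge inf_le_left (le_of_eq (hB.2.2.trans e.symm) : Nat.card F ≤ _)
        exact ((this.symm ▸ hx0 : x0 ∈ F ⊓ fixedSubgroup (ρ t))).2)
      have key : ∀ d ∈ List.range 5, d ∣ 4 → d ≠ 1 → d ≠ 4 → d = 2 := by decide
      have h2 := key _ (List.mem_range.2 (Nat.lt_succ_of_le (Nat.le_of_dvd (by norm_num) hd))) hd h1 h4
      -- the other three elements of `F` are then permuted by `t` with one fixed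
      let σ' : MulAut F :=
        MulEquiv.ofBijective (((ρ t).toMonoidHom.comp F.subtype).codRestrict F fun w => htF w w.2)
          (Finite.injective_iff_bijective.1 fun u v e => Subtype.ext ((ρ t).injective (congrArg Subtype.val e)))
      haveI : Fact (Nat.Prime 3) := ⟨Nat.prime_three⟩
      have h3 : σ' ^ 3 = 1 := MulEquiv.ext fun w => Subtype.ext (by
        simp only [pow_succ, pow_zero, one_mul, MulAut.mul_apply, MulAut.one_apply]
        show ρ t (ρ t (ρ t w)) = w
        rw [← MulAut.mul_apply, ← MulAut.mul_apply, ← map_mul, ← map_mul,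
          show t * t * t = 1 by decide +kernel, map_one, MulAut.one_apply])
      have hmod := card_fixed_modEq_prime h3
      have hcard : Nat.card {w : F // σ' w = w} = 2 := by
        rw [← h2]
        exact Nat.card_congr
          { toFun := fun w => ⟨w.1.1, w.1.2, congrArg Subtype.val w.2⟩
            invFun := fun w => ⟨⟨w.1, w.2.1⟩, Subtype.ext w.2.2⟩
            left_inv := fun w => rfl
            right_inv := fun w => rfl }
      rw [hcard, hB.2.2] at hmod
      exact absurd hmod (by decide)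
    -- then `s * t` has no fixed point
    have hsup : F ⊔ fixedSubgroup (ρ t) = ⊤ := by
      refine Subgroup.eq_top_of_card_eq _ ?_
      refine le_antisymm (Subgroup.card_le_card_group _) ?_
      let m : F × fixedSubgroup (ρ t) → (F ⊔ fixedSubgroup (ρ t) : Subgroup V) := fun p =>
        ⟨p.1.1 * p.2.1, Subgroup.mul_mem_sup p.1.2 p.2.2⟩
      have hm : Function.Injective m := fun p q e => by
        have e' : p.1.1 * p.2.1 = q.1.1 * q.2.1 := congrArg Subtype.val e
        have hq : (q.1.1)⁻¹ * p.1.1 = q.2.1 * (p.2.1)⁻¹ := by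
          rw [eq_mul_inv_iff_mul_eq, mul_assoc, e', inv_mul_cancel_left]
        have hb : (q.1.1)⁻¹ * p.1.1 ∈ F ⊓ fixedSubgroup (ρ t) :=
          ⟨F.mul_mem (F.inv_mem q.1.2) p.1.2, hq ▸ (fixedSubgroup (ρ t)).mul_mem q.2.2 ((fixedSubgroup (ρ t)).inv_mem p.2.2)⟩
        rw [hFF, Subgroup.mem_bot, inv_mul_eq_one] at hb
        rw [hb] at e'
        exact Prod.ext (Subtype.ext hb.symm) (Subtype.ext (mul_left_cancel e'))
      have := Nat.card_le_card_of_injective m hm
      rw [Nat.card_prod, hB.2.2, hB'.2.2] at this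
      omega
    obtain ⟨z, hz, hz1⟩ : ∃ z, ρ (s * t) z = z ∧ z ≠ 1 := by
      by_contra h
      push Not at h
      have := hA.2.2
      rw [Subgroup.card_eq_one.2 ((Subgroup.eq_bot_iff_forall (fixedSubgroup (ρ (s * t)))).2 fun x hx => h x hx)] at this
      omega
    obtain ⟨f1, hf1, f2, hf2, rfl⟩ := Subgroup.mem_sup.1 (hsup.symm ▸ Subgroup.mem_top z : z ∈ F ⊔ fixedSubgroup (ρ t))
    have e1 : ρ (s * t) f1 = ρ t f1 := by rw [map_mul, MulAut.mul_apply]; exact htF f1 hf1
    have e2 : ρ (s * t) f2 = ρ s f2 := by rw [map_mul, MulAut.mul_apply, show ρ t f2 = f2 from hf2]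
    rw [map_mul (ρ (s * t)), e1, e2] at hz
    have hf1' := htF f1 hf1
    have hf2' : ρ s f2 ∈ fixedSubgroup (ρ t) := by
      rw [hmem, ← MulAut.mul_apply, ← map_mul, ← hst, map_mul, MulAut.mul_apply, show ρ t f2 = f2 from hf2]
    have hq : f1⁻¹ * ρ t f1 = f2 * (ρ s f2)⁻¹ := by
      rw [eq_mul_inv_iff_mul_eq, mul_assoc, hz, inv_mul_cancel_left]
    have hb : f1⁻¹ * ρ t f1 ∈ F ⊓ fixedSubgroup (ρ t) :=
      ⟨F.mul_mem (F.inv_mem hf1) hf1', hq ▸ (fixedSubgroup (ρ t)).mul_mem hf2 ((fixedSubgroup (ρ t)).inv_mem hf2')⟩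
    rw [hFF, Subgroup.mem_bot, inv_mul_eq_one] at hb
    have hf1t : f1 ∈ F ⊓ fixedSubgroup (ρ t) := ⟨hf1, hb.symm⟩
    rw [hFF, Subgroup.mem_bot] at hf1t
    rw [← hb, mul_right_inj] at hz
    have hf2s : f2 ∈ F ⊓ fixedSubgroup (ρ t) := ⟨hz, hf2⟩
    rw [hFF, Subgroup.mem_bot] at hf2s
    exact hz1 (by rw [hf1t, hf2s, one_mul])
  -- so all four fix exactly `F`
  have hall : ∀ g, Nat.card (fixedSubgroup (ρ g)) = 4 → (∀ x ∈ F, ρ g x = x) → fixedSubgroup (ρ g) = F :=
    fun g hc hg => (Subgroup.eq_of_le_of_card_ge (fun x hx => hg x hx) (by rw [hc, hB.2.2])).symm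
  have hsF : ∀ x ∈ F, ρ s x = x := fun x hx => hx
  have heqt := hall t hB'.2.2 hFt
  have heqst := hall (s * t) hA.2.2 fun x hx => by rw [map_mul, MulAut.mul_apply, hFt x hx, hsF x hx]
  have heqst' := hall (s * t⁻¹) hA'.2.2 fun x hx => by
    rw [map_mul, MulAut.mul_apply, map_inv, show (ρ t)⁻¹ x = x from (ρ t).symm_apply_eq.2 (hFt x hx).symm, hsF x hx]
  obtain ⟨x, hx⟩ : ∃ x, x ∉ F := by
    by_contra h
    push Not at h
    have := hB.2.2
    rw [(Subgroup.eq_top_iff' F).2 h, Subgroup.card_top] at this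
    omega
  have hcl : ∀ g : Perm (Fin 6), g ^ 3 = 1 → fixedSubgroup (ρ g) = F → x * ρ g x ∉ F := fun g hg e hmem' =>
    hx (e ▸ fixed_of_coset ρ hV hg (e.symm ▸ hmem'))
  have hFs : ∀ g, (fixedSubgroup (ρ g) = F) → g * s = s * g → ∀ y ∈ F, ρ g y ∈ F := fun g e _ y hy => by
    have : ρ g y = y := (e.symm ▸ hy : y ∈ fixedSubgroup (ρ g))
    rwa [this]
  -- five distinct cosets
  let pt : Fin 4 → V := ![x, ρ s x, ρ (s * s) x, ρ t x]
  have hinv : ∀ g, fixedSubgroup (ρ g) = F → ∀ u w, u * w ∈ F → ρ g u * ρ g w ∈ F := fun g e u w h => by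
    rw [← map_mul]
    have : ρ g (u * w) = u * w := (e.symm ▸ h : u * w ∈ fixedSubgroup (ρ g))
    rwa [this]
  have hss : ρ (s * s) x = ρ s (ρ s x) := by rw [map_mul, MulAut.mul_apply]
  have hs2F : fixedSubgroup (ρ (s * s)) = F := by
    refine le_antisymm (fun y hy => ?_) fun y hy => ?_
    · rw [hF, hmem]
      have h3 : ρ (s * s * (s * s)) y = y := by rw [map_mul (ρ), MulAut.mul_apply, show ρ (s * s) y = y from hy, show ρ (s * s) y = y from hy]
      rwa [show s * s * (s * s) = s by decide +kernel] at h3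
    · show ρ (s * s) y = y
      rw [map_mul, MulAut.mul_apply, hsF y hy, hsF y hy]
  have hs_x := hcl s hB.1 rfl
  have hs2_x := hcl (s * s) (by decide +kernel) hs2F
  have ht_x := hcl t hB'.1 heqt
  have h13 : ρ s x * ρ (s * s) x ∉ F := fun h => hs_x (by
    have := hinv (s * s) hs2F _ _ h
    rw [← MulAut.mul_apply, ← MulAut.mul_apply, ← map_mul, ← map_mul,
      show s * s * s = 1 by decide +kernel, show s * s * (s * s) = s by decide +kernel, map_one,
      MulAut.one_apply] at this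
    exact this)
  have h14 : ρ s x * ρ t x ∉ F := fun h => by
    refine hcl ((s * t⁻¹)⁻¹) (by decide +kernel) ?_ ?_
    · refine le_antisymm (fun y hy => ?_) fun y hy => ?_
      · refine heqst' ▸ ?_
        show ρ (s * t⁻¹) y = y
        have : (ρ (s * t⁻¹))⁻¹ y = y := by rw [← map_inv]; exact hy
        exact ((ρ (s * t⁻¹)).symm_apply_eq.1 this).symm
      · show ρ (s * t⁻¹)⁻¹ y = y
        rw [map_inv]
        exact (ρ (s * t⁻¹)).symm_apply_eq.2 (heqst'.symm ▸ hy : y ∈ fixedSubgroup (ρ (s * t⁻¹))).symm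
    · have := hinv (s * s) hs2F _ _ h
      rw [← MulAut.mul_apply, ← MulAut.mul_apply, ← map_mul, ← map_mul,
        show s * s * s = 1 by decide +kernel, map_one, MulAut.one_apply,
        show s * s * t = (s * t⁻¹)⁻¹ by decide +kernel] at this
      exact this
  have h24 : ρ (s * s) x * ρ t x ∉ F := fun h => by
    refine hcl (s * t) hA.1 heqst ?_
    have := hinv s rfl _ _ h
    rw [← MulAut.mul_apply, ← MulAut.mul_apply, ← map_mul, ← map_mul, ← mul_assoc,
      show s * s * s = 1 by decide +kernel, map_one, MulAut.one_apply] at this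
    exact this
  let q : Fin 5 → V ⧸ F := ![1, QuotientGroup.mk x, QuotientGroup.mk (ρ s x), QuotientGroup.mk (ρ (s * s) x),
    QuotientGroup.mk (ρ t x)]
  have hne : ∀ u w : V, u * w ∉ F → (QuotientGroup.mk u : V ⧸ F) ≠ QuotientGroup.mk w := fun u w h e => h (by
    have := QuotientGroup.eq.1 e
    rwa [inv_eq_of_mul_eq_one_right (hV u)] at this)
  have hne1 : ∀ u : V, u ∉ F → (1 : V ⧸ F) ≠ QuotientGroup.mk u := fun u h e =>
    h ((QuotientGroup.eq_one_iff u).1 e.symm)
  have hout : ∀ g, fixedSubgroup (ρ g) = F → ρ g x ∉ F := fun g e h => by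
    have h' : ρ g (ρ g x) = ρ g x := (e.symm ▸ h : ρ g x ∈ fixedSubgroup (ρ g))
    exact hx ((ρ g).injective h' ▸ h)
  have hqne : ∀ i j, i < j → q i ≠ q j := by
    intro i j h
    fin_cases i <;> fin_cases j <;> first
      | exact absurd h (by decide)
      | exact hne1 _ hx
      | exact hne1 _ (hout s rfl)
      | exact hne1 _ (hout _ hs2F)
      | exact hne1 _ (hout _ heqt)
      | exact hne _ _ hs_x
      | exact hne _ _ hs2_x
      | exact hne _ _ ht_x
      | exact hne _ _ h13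
      | exact hne _ _ h14
      | exact hne _ _ h24
  have hqinj : Function.Injective q := by
    intro i j e
    rcases lt_trichotomy i j with h | h | h
    exacts [absurd e (hqne i j h), h, absurd e.symm (hqne j i h)]
  have h5 := Nat.card_le_card_of_injective q hqinj
  have hq4 := F.card_mul_index
  rw [hB.2.2, h16] at hq4
  rw [Nat.card_fin, ← Subgroup.index_eq_card] at h5
  omega

/-- The linear algebra of the three involutions on `V`. -/
theorem module_data (ρ : Perm (Fin 6) →* MulAut V) (hρ : Function.Injective ρ) (h16 : Nat.card V = 16)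
    (hV : ∀ v : V, v * v = 1) {σ : Perm (Fin 6)} {n : Fin 3 → Perm (Fin 6)} (hd : Data σ n)
    (hfpf : ∀ x, ρ σ x = x → x = 1) :
    (∀ i, ∃ s, n i * s = s * n i ∧ ∀ x, ρ s x = x → x = 1) ∧
    ∃ (v : V) (M : Subgroup V), v ≠ 1 ∧ v ∈ M ∧ 8 ≤ Nat.card M ∧
      (∀ i, ρ (n i) v = v) ∧
      (∀ i, ∀ x ∈ M, x * ρ (n i) x = 1 ∨ x * ρ (n i) x = v) ∧
      (∀ i j, i ≠ j → ∀ x, ρ (n i) x = x → ρ (n j) x = x → x = 1 ∨ x = v) := by
  haveI : Fact (Nat.Prime 2) := ⟨Nat.prime_two⟩
  haveI : Fact (Nat.Prime 3) := ⟨Nat.prime_three⟩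
  have hconjfree : ∀ c x, ρ (c * σ * c⁻¹) x = x → x = 1 := fun c x hx => by
    have h := hfpf ((ρ c)⁻¹ x) (by
      have := congrArg ((ρ c)⁻¹ : MulAut V) hx
      rw [← MulAut.mul_apply, ← map_inv, ← map_mul, ← mul_assoc, ← mul_assoc, inv_mul_cancel, one_mul,
        map_mul, MulAut.mul_apply, map_inv] at this
      exact this)
    exact (map_eq_one_iff _ ((ρ c)⁻¹ : MulAut V).injective).1 h
  have hn1 : ∀ i, n i ≠ 1 := by
    intro i e
    fin_cases i <;> simp at e
    · exact absurd (hd.sel_inj (true, false, false) (false, false, false) (by simp [sel, e])) (by decide)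
    · exact absurd (hd.sel_inj (false, true, false) (false, false, false) (by simp [sel, e])) (by decide)
    · exact absurd (hd.sel_inj (false, false, true) (false, false, false) (by simp [sel, e])) (by decide)
  refine ⟨fun i => ?_, ?_⟩
  · obtain ⟨c, hc⟩ := hd.cent i
    exact ⟨c * σ * c⁻¹, hc, hconjfree c⟩
  set C := fun i => fixedSubgroup (ρ (n i)) with hC
  have hmem : ∀ i x, x ∈ C i ↔ ρ (n i) x = x := fun i x => Iff.rfl
  have hsq : ∀ i, (ρ (n i)) ^ 2 = 1 := fun i => by rw [← map_pow, pow_two, hd.sq, map_one]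
  have happ : ∀ i x, ρ (n i) (ρ (n i) x) = x := fun i x => by
    rw [← MulAut.mul_apply, ← pow_two, hsq, MulAut.one_apply]
  have hcommA : ∀ (g h : Perm (Fin 6)), g * h = h * g → ∀ x, ρ g (ρ h x) = ρ h (ρ g x) := fun g h e x => by
    rw [← MulAut.mul_apply, ← MulAut.mul_apply, ← map_mul, ← map_mul, e]
  have h4 : ∀ i, Nat.card (C i) = 4 := by
    intro i
    obtain ⟨c, hc⟩ := hd.cent i
    have hd2 := Subgroup.card_subgroup_dvd_card (C i)
    rw [h16] at hd2
    have heven : 2 ∣ Nat.card (C i) := by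
      have hmod : Nat.card V ≡ Nat.card (C i) [MOD 2] := card_fixed_modEq_prime (σ := ρ (n i)) (p := 2) (hsq i)
      rw [h16] at hmod
      exact (Nat.ModEq.dvd_iff hmod (dvd_refl 2)).1 (by norm_num)
    have hne16 : Nat.card (C i) ≠ 16 := fun e => hn1 i (hρ (MulEquiv.ext fun x => by
      have htop := Subgroup.eq_top_of_card_eq _ (e.trans h16.symm)
      rw [map_one]
      exact (htop ▸ Subgroup.mem_top x : x ∈ C i)))
    have hinv : ∀ w ∈ C i, ρ (c * σ * c⁻¹) w ∈ C i := fun w hw => by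
      rw [hmem, hcommA _ _ hc, (hmem i w).1 hw]
    let s' : MulAut (C i) :=
      MulEquiv.ofBijective (((ρ (c * σ * c⁻¹)).toMonoidHom.comp (C i).subtype).codRestrict (C i) fun w => hinv w w.2)
        (Finite.injective_iff_bijective.1 fun u v e => Subtype.ext ((ρ (c * σ * c⁻¹)).injective (congrArg Subtype.val e)))
    have h3 : s' ^ 3 = 1 := MulEquiv.ext fun w => Subtype.ext (by
      simp only [pow_succ, pow_zero, one_mul, MulAut.mul_apply, MulAut.one_apply]
      show ρ (c * σ * c⁻¹) (ρ (c * σ * c⁻¹) (ρ (c * σ * c⁻¹) w)) = w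
      rw [← MulAut.mul_apply, ← MulAut.mul_apply, ← map_mul, ← map_mul,
        show c * σ * c⁻¹ * (c * σ * c⁻¹) * (c * σ * c⁻¹) = c * σ ^ 3 * c⁻¹ by simp [pow_succ, mul_assoc],
        hd.three, mul_one, mul_inv_cancel, map_one, MulAut.one_apply])
    have hone : Nat.card {w : C i // s' w = w} = 1 := Nat.card_eq_one_iff_exists.2
      ⟨⟨1, map_one s'⟩, fun w => Subtype.ext (Subtype.ext (hconjfree c _ (congrArg Subtype.val w.2)))⟩
    have hmod := card_fixed_modEq_prime h3
    rw [hone] at hmod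
    have key : ∀ d ∈ List.range 17, d ∣ 16 → 2 ∣ d → d ≠ 16 → d % 3 = 1 % 3 → d = 4 := by decide
    exact key _ (List.mem_range.2 (Nat.lt_succ_of_le (Nat.le_of_dvd (by norm_num) hd2))) hd2 heven hne16 hmod
  have hstab : ∀ i j, ∀ x ∈ C i, ρ (n j) x ∈ C i := fun i j x hx => by
    rw [hmem, hcommA _ _ (hd.comm i j), (hmem i x).1 hx]
  have hne : ∀ i j, i < j → C i ≠ C j := by
    intro i j hij e
    obtain ⟨h, c, hh, hr⟩ := hd.pair i j hij
    have h4' := h4 i
    rw [Subgroup.card_eq_one.2 ((Subgroup.eq_bot_iff_forall (C i)).2 fun x hx => hconjfree c x ?_)] at h4'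
    · omega
    have hx' : ρ h⁻¹ x ∈ C i := by
      rw [e] at hx ⊢
      rw [hmem, hcommA _ _ (show n j * h⁻¹ = h⁻¹ * n j from
        (Commute.inv_left (show Commute h (n j) from hh)).symm), (hmem j x).1 hx]
    rw [← hr]
    simp only [map_mul, MulAut.mul_apply]
    rw [(hmem i _).1 hx', show ρ h (ρ h⁻¹ x) = x by rw [← MulAut.mul_apply, ← map_mul, mul_inv_cancel, map_one, MulAut.one_apply]]
    exact (hmem i x).1 hx
  have h2 : ∀ i j, i ≠ j → Nat.card (C i ⊓ C j : Subgroup V) = 2 := by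
    intro i j hij
    have hdd : Nat.card (C i ⊓ C j : Subgroup V) ∣ 4 := h4 i ▸ Subgroup.card_dvd_of_le inf_le_left
    have hne4 : Nat.card (C i ⊓ C j : Subgroup V) ≠ 4 := fun e => by
      have e1 := Subgroup.eq_of_le_of_card_ge inf_le_left (le_of_eq ((h4 i).trans e.symm))
      have e2 := Subgroup.eq_of_le_of_card_ge inf_le_right (le_of_eq ((h4 j).trans e.symm))
      rcases lt_or_gt_of_ne hij with h | h
      · exact hne i j h (e1.symm.trans e2)
      · exact hne j i h (e2.symm.trans e1)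
    let s' : MulAut (C i) :=
      MulEquiv.ofBijective (((ρ (n j)).toMonoidHom.comp (C i).subtype).codRestrict (C i) fun w => hstab i j w w.2)
        (Finite.injective_iff_bijective.1 fun u v e => Subtype.ext ((ρ (n j)).injective (congrArg Subtype.val e)))
    have hs2 : s' ^ 2 = 1 := MulEquiv.ext fun w => Subtype.ext (by
      simp only [pow_succ, pow_zero, one_mul, MulAut.mul_apply, MulAut.one_apply]
      exact happ j w)
    have hmod := card_fixed_modEq_prime hs2
    have hcard : Nat.card {w : C i // s' w = w} = Nat.card (C i ⊓ C j : Subgroup V) :=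
      Nat.card_congr
        { toFun := fun w => ⟨w.1.1, w.1.2, congrArg Subtype.val w.2⟩
          invFun := fun w => ⟨⟨w.1, w.2.1⟩, Subtype.ext w.2.2⟩
          left_inv := fun w => rfl
          right_inv := fun w => rfl }
    rw [hcard, h4] at hmod
    have key : ∀ d ∈ List.range 5, d ∣ 4 → d ≠ 4 → 4 % 2 = d % 2 → d = 2 := by decide
    exact key _ (List.mem_range.2 (Nat.lt_succ_of_le (Nat.le_of_dvd (by norm_num) hdd))) hdd hne4 hmod
  obtain ⟨v, hv, hv1⟩ : ∃ v ∈ (C 0 ⊓ C 1 : Subgroup V), v ≠ 1 := by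
    by_contra h
    push Not at h
    have := h2 0 1 (by decide)
    rw [Subgroup.card_eq_one.2 ((Subgroup.eq_bot_iff_forall (C 0 ⊓ C 1)).2 h)] at this
    omega
  have htwo : ∀ i j, i ≠ j → ∀ w ∈ (C i ⊓ C j : Subgroup V), w ≠ 1 → ∀ x ∈ (C i ⊓ C j : Subgroup V), x = 1 ∨ x = w := by
    intro i j hij w hw hw1 x hx
    have hle : Subgroup.zpowers w = (C i ⊓ C j : Subgroup V) := Subgroup.eq_of_le_of_card_ge
      (Subgroup.zpowers_le.2 hw) (by rw [h2 i j hij, Nat.card_zpowers, orderOf_eq_prime (by rw [pow_two, hV]) hw1])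
    obtain ⟨k, rfl⟩ := Subgroup.mem_zpowers_iff.1 (hle ▸ hx)
    have hw2 : w ^ (2 : ℤ) = 1 := by rw [zpow_two, hV]
    rcases Int.even_or_odd k with ⟨l, rfl⟩ | ⟨l, rfl⟩
    · left; rw [← two_mul, zpow_mul, hw2, one_zpow]
    · right; rw [zpow_add, zpow_mul, hw2, one_zpow, one_mul, zpow_one]
  have hv2 : v ∈ C 2 := by
    rw [hmem]
    have h' : ρ (n 2) v ∈ (C 0 ⊓ C 1 : Subgroup V) := ⟨hstab 0 2 v hv.1, hstab 1 2 v hv.2⟩
    exact (htwo 0 1 (by decide) v hv hv1 _ h').resolve_left fun e => hv1 ((map_eq_one_iff _ (ρ (n 2)).injective).1 e)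
  have hvall : ∀ i, v ∈ C i := fun i => by fin_cases i; exacts [hv.1, hv.2, hv2]
  have hpair : ∀ i j, i ≠ j → ∀ x, ρ (n i) x = x → ρ (n j) x = x → x = 1 ∨ x = v := fun i j hij x hi hj =>
    htwo i j hij v ⟨hvall i, hvall j⟩ hv1 x ⟨hi, hj⟩
  have hCk : ∀ i k, ∀ x ∈ C i, x * ρ (n k) x = 1 ∨ x * ρ (n k) x = v := by
    intro i k x hx
    by_cases hik : i = k
    · subst hik
      left
      rw [(hmem i x).1 hx, hV]
    · refine hpair i k hik _ (mul_mem hx (hstab i k x hx)) ?_
      rw [map_mul, happ, mul_comm]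
  refine ⟨v, C 0 ⊔ C 1, hv1, Subgroup.mem_sup_left hv.1, ?_, fun i => hvall i, fun k x hx => ?_, hpair⟩
  · have hd8 : Nat.card (C 0) ∣ Nat.card (C 0 ⊔ C 1 : Subgroup V) := Subgroup.card_dvd_of_le le_sup_left
    have hne4 : Nat.card (C 0 ⊔ C 1 : Subgroup V) ≠ 4 := fun e => hne 0 1 (by decide) (by
      have e0 := Subgroup.eq_of_le_of_card_ge (le_sup_left : C 0 ≤ C 0 ⊔ C 1) (by rw [e, h4])
      exact (Subgroup.eq_of_le_of_card_ge (le_sup_right.trans e0.ge : C 1 ≤ C 0) (by rw [h4, h4])).symm)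
    rw [h4] at hd8
    have hpos : 0 < Nat.card (C 0 ⊔ C 1 : Subgroup V) := Nat.card_pos
    omega
  · obtain ⟨x0, hx0, x1, hx1, rfl⟩ := Subgroup.mem_sup.1 hx
    rw [map_mul, mul_mul_mul_comm]
    rcases hCk 0 k x0 hx0 with e | e <;> rcases hCk 1 k x1 hx1 with e' | e' <;> simp [e, e', hV]

variable {Y : Type*} [Group Y] [Finite Y]

/-- The main result of this file. -/
theorem not_sectional_four (N : Subgroup Y) [N.Normal] (hN : Nat.card N = 16) (hexp : ∀ v ∈ N, v * v = 1)
    (hfaith : ∀ y : Y, (∀ v ∈ N, y * v = v * y) → y ∈ N) (ι : Perm (Fin 6) →* Y ⧸ N)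
    (hι : Function.Injective ι) : ¬ Cfsg.SectionalPRankLE 2 4 Y := by
  intro hsr
  have hNc : ∀ a ∈ N, ∀ b ∈ N, a * b = b * a := fun a ha b hb =>
    congrArg Subtype.val (comm_of_sq (V := N) (fun v => Subtype.ext (hexp v v.2)) ⟨a, ha⟩ ⟨b, hb⟩)
  letI : CommGroup N := { (inferInstance : Group N) with mul_comm := fun a b => Subtype.ext (hNc a a.2 b b.2) }
  have hsqN : ∀ v : N, v * v = 1 := fun v => Subtype.ext (hexp v v.2)
  let cj : Y →* MulAut N := MulAut.conjNormal
  have hle : N ≤ cj.ker := fun y hy => MulEquiv.ext fun v => Subtype.ext (by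
    show y * v * y⁻¹ = v
    rw [hNc y hy v v.2, mul_inv_cancel_right])
  let ρ : Perm (Fin 6) →* MulAut N := (QuotientGroup.lift N cj hle).comp ι
  have hρ : Function.Injective ρ := by
    refine (QuotientGroup.lift N cj hle |> injective_iff_map_eq_one |>.2 fun q hq => ?_).comp hι
    obtain ⟨y, rfl⟩ := QuotientGroup.mk'_surjective N q
    refine (QuotientGroup.eq_one_iff y).2 (hfaith y fun v hv => ?_)
    have := congrArg Subtype.val (MulEquiv.congr_fun hq ⟨v, hv⟩)
    exact eq_mul_of_mul_inv_eq this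
  have hρc : ∀ (g : Perm (Fin 6)) (y : Y), ι g = QuotientGroup.mk y → ∀ v : N, (ρ g v : Y) = y * v * y⁻¹ := by
    intro g y e v
    show ((QuotientGroup.lift N cj hle (ι g) v : N) : Y) = _
    rw [e]
    rfl
  obtain ⟨σ, n, hd, hfpf⟩ : ∃ σ n, Data σ n ∧ ∀ x, ρ σ x = x → x = 1 := by
    rcases fixedPointFree_or ρ hρ hN hsqN with h | h
    exacts [⟨_, _, data_A, h⟩, ⟨_, _, data_B, h⟩]
  obtain ⟨hcent, v, M, hv1, hvM, hM8, hvfix, hMv, hpair⟩ := module_data ρ hρ hN hsqN hd hfpf
  -- involutions lifting the three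
  have hlift : ∀ i, ∃ a : Y, a * a = 1 ∧ ι (n i) = QuotientGroup.mk a := by
    intro i
    obtain ⟨s, hs, hfree⟩ := hcent i
    obtain ⟨y, hy⟩ := QuotientGroup.mk_surjective (ι s)
    obtain ⟨a, ha⟩ := QuotientGroup.mk_surjective (ι (n i))
    have hu : y⁻¹ * (a * y * a⁻¹) ∈ N := by
      rw [← QuotientGroup.eq_one_iff]
      simp only [QuotientGroup.mk_mul, QuotientGroup.mk_inv, hy, ha, ← map_mul, ← map_inv, hs]
      rw [mul_inv_cancel_right, inv_mul_cancel, map_one]
    let f : N →* N := MonoidHom.mk' (fun w => w * (ρ s)⁻¹ w) fun w w' => by rw [map_mul, mul_mul_mul_comm]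
    have hf : Function.Surjective f := Finite.injective_iff_surjective.1 ((injective_iff_map_eq_one f).2 fun w hw => by
      have hw' : w * (ρ s)⁻¹ w = 1 := hw
      have : w = (ρ s)⁻¹ w := by
        calc w = w * (w * (ρ s)⁻¹ w) := by rw [hw', mul_one]
          _ = (ρ s)⁻¹ w := by rw [← mul_assoc, hsqN, one_mul]
      exact hfree w ((ρ s).symm_apply_eq.1 this.symm).symm)
    obtain ⟨w, hw⟩ := hf ⟨_, hu⟩
    have hw' : (w : Y) * (y⁻¹ * w * y) = y⁻¹ * (a * y * a⁻¹) := by
      have h := congrArg Subtype.val hw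
      refine Eq.trans ?_ h
      show (w : Y) * (y⁻¹ * w * y) = (w : Y) * ((ρ s)⁻¹ w : N)
      congr 1
      rw [← map_inv, hρc s⁻¹ y⁻¹ (by rw [map_inv, QuotientGroup.mk_inv, hy]) w, inv_inv]
    refine ⟨(w : Y)⁻¹ * a, ?_, by rw [QuotientGroup.mk_mul, QuotientGroup.mk_inv, (QuotientGroup.eq_one_iff _).2 w.2, inv_one, one_mul, ha]⟩
    set a' := (w : Y)⁻¹ * a with ha'
    have hw2 : (w : Y)⁻¹ = w := inv_eq_of_mul_eq_one_right (hexp w w.2)
    have hcomm : a' * y * a'⁻¹ = y := by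
      calc a' * y * a'⁻¹ = (w : Y)⁻¹ * y * (y⁻¹ * (a * y * a⁻¹)) * w := by rw [ha']; group
        _ = (w : Y)⁻¹ * y * ((y⁻¹ * w * y) * w) * w := by
            rw [← hw', hNc w w.2 _ ((inferInstance : N.Normal).conj_mem' w w.2 y)]
        _ = y * ((w : Y) * w) := by rw [hw2]; group; simp [mul_assoc, hexp w w.2]
        _ = y := by rw [hexp w w.2, mul_one]
    have hm : a' * a' ∈ N := by
      rw [← QuotientGroup.eq_one_iff, QuotientGroup.mk_mul, show (QuotientGroup.mk a' : Y ⧸ N) = ι (n i) by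
        rw [ha', QuotientGroup.mk_mul, QuotientGroup.mk_inv, (QuotientGroup.eq_one_iff _).2 w.2, inv_one, one_mul, ha],
        ← map_mul, hd.sq, map_one]
    have hfix : ρ s ⟨_, hm⟩ = ⟨_, hm⟩ := Subtype.ext (by
      rw [hρc s y hy.symm]
      show y * (a' * a') * y⁻¹ = a' * a'
      have e : a' * y = y * a' := mul_inv_eq_iff_eq_mul.1 hcomm
      rw [← mul_assoc, ← e, mul_assoc a' y a', ← e, ← mul_assoc, mul_inv_cancel_right])
    exact congrArg Subtype.val (hfree _ hfix)
  choose a ha hιa using hlift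
  let z : Y := (v : Y)
  have hzz : z * z = 1 := hexp z v.2
  have haz : ∀ i, a i * z * (a i)⁻¹ = z := fun i => by
    rw [← hρc (n i) (a i) (hιa i) v, hvfix i]
  have hainv : ∀ i, (a i)⁻¹ = a i := fun i => inv_eq_of_mul_eq_one_right (ha i)
  have hcm : ∀ i j, a i * a j * (a i * a j) = 1 ∨ a i * a j * (a i * a j) = z := by
    intro i j
    by_cases hij : i = j
    · subst hij; left; rw [ha]; exact one_mul 1
    have hm : a i * a j * (a i * a j) ∈ N := by
      rw [← QuotientGroup.eq_one_iff]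
      simp only [QuotientGroup.mk_mul, ← hιa, ← map_mul]
      rw [mul_assoc, ← mul_assoc (n j), hd.comm j i, mul_assoc (n i) (n j), hd.sq, mul_one, hd.sq, map_one]
    have hinv' : ∀ k, (k = i ∨ k = j) → a k * (a i * a j * (a i * a j)) * (a k)⁻¹ = a i * a j * (a i * a j) := by
      have hmi : (a i * a j * (a i * a j))⁻¹ = a i * a j * (a i * a j) := inv_eq_of_mul_eq_one_right (hexp _ hm)
      rintro k (rfl | rfl) <;> conv_rhs => rw [← hmi]
      · simp only [mul_inv_rev, hainv, mul_assoc, ha, mul_one]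
        simp only [← mul_assoc, ha, one_mul]
      · simp only [mul_inv_rev, hainv, mul_assoc, ha, mul_one]
    have h1 : ρ (n i) ⟨_, hm⟩ = ⟨_, hm⟩ := Subtype.ext (by rw [hρc _ _ (hιa i)]; exact hinv' i (Or.inl rfl))
    have h2 : ρ (n j) ⟨_, hm⟩ = ⟨_, hm⟩ := Subtype.ext (by rw [hρc _ _ (hιa j)]; exact hinv' j (Or.inr rfl))
    rcases hpair i j hij _ h1 h2 with e | e
    · exact Or.inl (congrArg Subtype.val e)
    · exact Or.inr (congrArg Subtype.val e)
  let S : Set Y := Set.range a ∪ (Subtype.val '' (M : Set N))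
  let D := Subgroup.closure S
  have hzD : z ∈ D := Subgroup.subset_closure (Or.inr ⟨v, hvM, rfl⟩)
  have hzc : ∀ d ∈ D, z * d = d * z := by
    intro d hd'
    have hle' : D ≤ Subgroup.centralizer {z} := (Subgroup.closure_le _).2 (by
      rintro x (⟨i, rfl⟩ | ⟨m, -, rfl⟩)
      · rw [SetLike.mem_coe, Subgroup.mem_centralizer_singleton_iff]
        exact mul_inv_eq_iff_eq_mul.1 (haz i)
      · rw [SetLike.mem_coe, Subgroup.mem_centralizer_singleton_iff]
        exact hNc m m.2 z v.2)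
    exact (Subgroup.mem_centralizer_singleton_iff.1 (hle' hd')).symm
  let K : Subgroup D := Subgroup.zpowers ⟨z, hzD⟩
  haveI : K.Normal := ⟨fun x hx g => by
    obtain ⟨k, rfl⟩ := Subgroup.mem_zpowers_iff.1 hx
    have hc : Commute g ⟨z, hzD⟩ := Subtype.ext (hzc g g.2).symm
    rw [(hc.zpow_right k).eq, mul_inv_cancel_right]
    exact ⟨k, rfl⟩⟩
  let π : D →* D ⧸ K := QuotientGroup.mk' K
  have hπz : ∀ x : D, (x : Y) = 1 ∨ (x : Y) = z → π x = 1 := fun x hx => by
    refine (QuotientGroup.eq_one_iff x).2 ?_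
    rcases hx with h | h
    · rw [show x = 1 from Subtype.ext h]; exact one_mem _
    · rw [show x = ⟨z, hzD⟩ from Subtype.ext h]; exact Subgroup.mem_zpowers _
  let S' : Set D := {x | (x : Y) ∈ S}
  have hS' : Subgroup.closure S' = ⊤ := Subgroup.closure_closure_coe_preimage (k := S)
  have hsqS : ∀ x ∈ S', π x * π x = 1 := by
    intro x hx
    rw [← map_mul]
    refine hπz _ (Or.inl ?_)
    rcases hx with ⟨i, e⟩ | ⟨m, -, e⟩
    · rw [Subgroup.coe_mul, ← e, ha]
    · rw [Subgroup.coe_mul, ← e]; exact hexp m m.2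
  have hprod : ∀ x ∈ S', ∀ x' ∈ S', π (x * x') * π (x * x') = 1 := by
    intro x hx x' hx'
    rw [← map_mul]
    refine hπz _ ?_
    simp only [Subgroup.coe_mul]
    rcases hx with ⟨i, e⟩ | ⟨m, hm, e⟩ <;> rcases hx' with ⟨j, e'⟩ | ⟨m', hm', e'⟩ <;> rw [← e, ← e']
    · exact hcm i j
    · rcases hMv i m' hm' with h | h <;> [left; right] <;>
      · have h' := congrArg Subtype.val h
        rw [Subgroup.coe_mul, hNc m'.1 m'.2 _ (ρ (n i) m').2, hρc _ _ (hιa i), hainv i] at h'
        rw [← mul_assoc]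
        simpa [mul_assoc] using h'
    · rcases hMv j m hm with h | h <;> [left; right] <;>
      · have h' := congrArg Subtype.val h
        rw [Subgroup.coe_mul, hρc _ _ (hιa j), hainv j] at h'
        rw [← mul_assoc]
        simpa [mul_assoc] using h'
    · left
      exact hexp _ (mul_mem m.2 m'.2)
  have hcommS : ∀ p ∈ π '' S', ∀ p' ∈ π '' S', p * p' = p' * p := by
    rintro _ ⟨x, hx, rfl⟩ _ ⟨x', hx', rfl⟩
    have h := hprod x hx x' hx'
    rw [map_mul] at h
    calc π x * π x' = (π x * π x')⁻¹ := (inv_eq_of_mul_eq_one_right h).symm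
      _ = π x' * π x := by
          rw [mul_inv_rev, inv_eq_of_mul_eq_one_right (hsqS x hx), inv_eq_of_mul_eq_one_right (hsqS x' hx')]
  have htop : Subgroup.closure (π '' S') = ⊤ := by
    rw [← MonoidHom.map_closure, hS', Subgroup.map_top_of_surjective _ (QuotientGroup.mk'_surjective K)]
  haveI hQc : IsMulCommutative (Subgroup.closure (π '' S')) := Subgroup.isMulCommutative_closure hcommS
  have hQc' : ∀ p q : D ⧸ K, p * q = q * p := fun p q =>
    congrArg Subtype.val (hQc.is_comm.comm ⟨p, htop ▸ Subgroup.mem_top p⟩ ⟨q, htop ▸ Subgroup.mem_top q⟩)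
  have hexpQ : ∀ p : D ⧸ K, p ^ 2 = 1 := fun p => by
    induction (htop ▸ Subgroup.mem_top p : p ∈ Subgroup.closure (π '' S')) using Subgroup.closure_induction with
    | mem x hx => obtain ⟨x, hx', rfl⟩ := hx; rw [pow_two, hsqS x hx']
    | one => exact one_pow 2
    | mul x y _ _ hx hy => rw [Commute.mul_pow (hQc' x y), hx, hy, one_mul]
    | inv x _ hx => rw [inv_pow, hx, inv_one]
  have hbound := hsr D K ⊤ ⟨⟨fun p q => Subtype.ext (hQc' p q)⟩⟩ fun p _ => hexpQ p
  rw [Subgroup.card_top] at hbound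
  -- the order of `D`
  have h64 : 64 ≤ Nat.card D := by
    have hsel : ∀ e : Bool × Bool × Bool, ∃ d : D, QuotientGroup.mk (d : Y) = ι (sel n e) := fun e => by
      have hg : ∀ (i : Fin 3) (b : Bool), ∃ d : D, QuotientGroup.mk (d : Y) = ι (if b then n i else 1) := by
        intro i b
        cases b
        · exact ⟨1, by simp⟩
        · exact ⟨⟨a i, Subgroup.subset_closure (Or.inl ⟨i, rfl⟩)⟩, by simp [hιa]⟩
      obtain ⟨d0, e0⟩ := hg 0 e.1
      obtain ⟨d1, e1⟩ := hg 1 e.2.1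
      obtain ⟨d2, e2⟩ := hg 2 e.2.2
      exact ⟨d0 * d1 * d2, by simp only [sel, Subgroup.coe_mul, QuotientGroup.mk_mul, e0, e1, e2, map_mul]⟩
    choose dd hdd using hsel
    let F : (Bool × Bool × Bool) × M → D := fun p =>
      dd p.1 * ⟨(p.2.1 : Y), Subgroup.subset_closure (Or.inr ⟨p.2.1, p.2.2, rfl⟩)⟩
    have hF : Function.Injective F := by
      intro p q e
      have e' : (dd p.1 : Y) * (p.2.1 : Y) = (dd q.1 : Y) * (q.2.1 : Y) := congrArg Subtype.val e
      have h1 := congrArg (QuotientGroup.mk : Y → Y ⧸ N) e'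
      simp only [QuotientGroup.mk_mul, hdd, (QuotientGroup.eq_one_iff _).2 p.2.1.2,
        (QuotientGroup.eq_one_iff _).2 q.2.1.2, mul_one] at h1
      have hpq := hd.sel_inj _ _ (hι h1)
      rw [hpq] at e'
      exact Prod.ext hpq (Subtype.ext (Subtype.ext (mul_left_cancel e')))
    have h := Nat.card_le_card_of_injective F hF
    rw [Nat.card_prod, Nat.card_prod, Nat.card_prod, Nat.card_eq_fintype_card (α := Bool), Fintype.card_bool] at h
    omega
  have hK : Nat.card K ≤ 2 := by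
    rw [Nat.card_zpowers]
    exact Nat.le_of_dvd (by norm_num) (orderOf_dvd_of_pow_eq_one (Subtype.ext (by simp [pow_two, hzz])))
  have hmul := K.card_mul_index
  rw [Subgroup.index_eq_card] at hmul
  have : Nat.card K * Nat.card (D ⧸ K) ≤ 2 * 16 := Nat.mul_le_mul hK (by simpa using hbound)
  omega

end Cfsg.Agent.A8Sub.RankFive
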