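import Cfsg.Agent.Lib.A8Sub.Tools
import Cfsg.Agent.Lib.A8Sub.Linear

/-!
# Subgroups of `A_8` of order divisible by 7 without solvable normal subgroups
-/

set_option autoImplicit false
set_option linter.style.haveILetI false

namespace Cfsg.Agent.A8Sub

open Equiv Subgroup

/-- An involution of `A_8` inverts no element of order 7. -/
theorem not_invert (σ x : Perm (Fin 8)) (hσ : orderOf σ = 7) (hx : orderOf x = 2)
    (heven : Perm.sign x = 1) (h : x * σ * x⁻¹ = σ⁻¹) : False := by
  haveI : Fact (Nat.Prime 7) := ⟨by norm_num⟩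
  obtain ⟨n, hn⟩ := Perm.cycleType_prime_order (hσ ▸ (by norm_num) : (orderOf σ).Prime)
  have hsum := σ.sum_cycleType
  have hle := σ.support.card_le_univ
  rw [hn, Multiset.sum_replicate, hσ, smul_eq_mul] at hsum
  rw [Fintype.card_fin] at hle
  have hn0 : n = 0 := by omega
  subst hn0
  have hcyc : σ.IsCycle := Perm.isCycle_of_prime_order (hσ ▸ (by norm_num)) (by omega)
  have hsc : σ.supportᶜ.card = 1 := by
    rw [Finset.card_compl, Fintype.card_fin]
    omega
  obtain ⟨a, ha⟩ := Finset.card_eq_one.1 hsc
  have hfixa : ∀ y, σ y = y ↔ y = a := fun y => by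
    rw [show y = a ↔ y ∈ ({a} : Finset (Fin 8)) from Finset.mem_singleton.symm, ← ha,
      Finset.mem_compl, Perm.notMem_support]
  have hrel : ∀ i : ℕ, ∀ y, x ((σ ^ i) y) = (σ⁻¹ ^ i) (x y) := fun i y => by
    have := Equiv.congr_fun (conj_pow (i := i) (a := x) (b := σ)) (x y)
    rw [h] at this
    simpa using this.symm
  have hxa : x a = a := by
    refine (hfixa _).1 ?_
    have h1 := hrel 1 a
    rw [pow_one, pow_one, (hfixa a).2 rfl] at h1
    calc σ (x a) = σ (σ⁻¹ (x a)) := by rw [← h1]
      _ = x a := by simp
  -- at most two fixed points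
  have hx2 : x ^ 2 = 1 := by rw [← hx]; exact pow_orderOf_eq_one x
  have hfix2 : x.supportᶜ.card ≤ 2 := by
    by_contra hcon
    have : 1 < (x.supportᶜ.erase a).card := by
      have := Finset.pred_card_le_card_erase (a := a) (s := x.supportᶜ)
      omega
    obtain ⟨b, hb, c, hc, hbc⟩ := Finset.one_lt_card.1 this
    rw [Finset.mem_erase, Finset.mem_compl, Perm.notMem_support] at hb hc
    obtain ⟨i, hi⟩ := hcyc.exists_pow_eq (mt (hfixa b).1 hb.1) (mt (hfixa c).1 hc.1)
    have h1 := hrel i b
    rw [hi, hb.2, hc.2] at h1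
    have h2 : (σ ^ (i + i)) b = b := by
      rw [pow_add, Perm.mul_apply, hi, h1]
      simp
    have h7 : 7 ∣ i + i := hσ ▸ orderOf_dvd_iff_pow_eq_one.2
      ((hcyc.pow_eq_one_iff' (mt (hfixa b).1 hb.1)).2 h2)
    have h7i : 7 ∣ i := by omega
    rw [← orderOf_dvd_iff_pow_eq_one.1 (hσ ▸ h7i), ] at *
    exact hbc (by simpa [orderOf_dvd_iff_pow_eq_one.1 (hσ ▸ h7i : orderOf σ ∣ i)] using hi)
  obtain ⟨k, hk⟩ := Perm.cycleType_prime_order (hx ▸ Nat.prime_two : (orderOf x).Prime)
  have hxsum := x.sum_cycleType
  rw [hk, Multiset.sum_replicate, hx, smul_eq_mul] at hxsum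
  rw [Perm.sign_of_cycleType, hk, Multiset.sum_replicate, Multiset.card_replicate, hx, smul_eq_mul,
    neg_one_pow_eq_one_iff_even (by decide), Nat.even_iff] at heven
  have hxle := x.support.card_le_univ
  rw [Finset.card_compl, Fintype.card_fin] at hfix2
  rw [Fintype.card_fin] at hxle
  have hxne : x.support.card ≠ 8 := fun h8 => by
    have := Finset.eq_univ_of_card x.support (by simpa using h8)
    exact Perm.mem_support.1 (this ▸ Finset.mem_univ a) hxa
  omega

variable {G : Type*} [Group G] [Finite G] (f : G →* alternatingGroup (Fin 8))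
  (hf : Function.Injective f)
include hf

theorem orderOf_mem (g : G) : orderOf g ∈ [1, 2, 3, 4, 5, 6, 7, 15] := by
  rw [← orderOf_injective f hf g]
  exact orderOf_mem_eight _

theorem card_dvd : Nat.card G ∣ 20160 := by
  have h := Subgroup.card_dvd_of_injective f hf
  rwa [nat_card_alternatingGroup, Nat.card_fin] at h

/-- `C_G(P) = P` for `|P| = 7`. -/
theorem card_centralizer_seven (P : Subgroup G) (hP : Nat.card P = 7) :
    Nat.card (Subgroup.centralizer (P : Set G)) = 7 := by
  haveI : Fact (Nat.Prime 7) := ⟨by norm_num⟩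
  set C := Subgroup.centralizer (P : Set G) with hC
  haveI : IsCyclic P := isCyclic_of_prime_card hP
  have hPC : P ≤ C := fun x hx => by
    rw [hC, Subgroup.mem_centralizer_iff]
    intro y hy
    exact congrArg Subtype.val
      ((IsCyclic.commGroup (α := P)).mul_comm (⟨y, hy⟩ : P) ⟨x, hx⟩)
  obtain ⟨g, hg⟩ := exists_prime_orderOf_dvd_card' (G := P) 7 (by rw [hP])
  have huniq : ∀ {q : ℕ}, q.Prime → q ∣ Nat.card C → q = 7 := fun {q} hq hdvd => by
    haveI := Fact.mk hq
    obtain ⟨y, hy⟩ := exists_prime_orderOf_dvd_card' (G := C) q hdvd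
    by_contra hne
    have hcomm : Commute (y : G) (g : G) := (Subgroup.mem_centralizer_iff.1 y.2 _ g.2).symm
    rw [← Subgroup.orderOf_coe] at hy hg
    have hmul := hcomm.orderOf_mul_eq_mul_orderOf_of_coprime
      (by rw [hy, hg]; exact (Nat.coprime_primes hq (by norm_num)).2 hne)
    rw [hy, hg] at hmul
    have := orderOf_mem f hf ((y : G) * g)
    rw [hmul] at this
    simp only [List.mem_cons, List.not_mem_nil, or_false] at this
    have := hq.two_le
    omega
  have hpos : Nat.card C ≠ 0 := Nat.card_pos.ne'
  have hpow := Nat.eq_prime_pow_of_unique_prime_dvd hpos huniq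
  have h7 : 7 ∣ Nat.card C := hP ▸ Subgroup.card_dvd_of_le hPC
  have hd := (Subgroup.card_subgroup_dvd_card C).trans (card_dvd f hf)
  rw [hpow] at hd h7 ⊢
  generalize (Nat.card C).primeFactorsList.length = k at hd h7 ⊢
  match k, hd, h7 with
  | 0, _, h7 => omega
  | 1, _, _ => rfl
  | k + 2, hd, _ =>
    exact absurd ((pow_dvd_pow 7 (Nat.le_add_left 2 k)).trans hd) (by norm_num)

theorem card_normalizer_seven (P : Subgroup G) (hP : Nat.card P = 7) :
    Nat.card (Subgroup.normalizer (P : Set G)) = 7 ∨
      Nat.card (Subgroup.normalizer (P : Set G)) = 21 := by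
  haveI : Fact (Nat.Prime 7) := ⟨by norm_num⟩
  haveI : Fact (Nat.Prime 2) := ⟨Nat.prime_two⟩
  set N := Subgroup.normalizer (P : Set G) with hN
  have hd := card_normalizer_dvd (by norm_num) P hP
  rw [card_centralizer_seven f hf P hP] at hd
  have h7 : 7 ∣ Nat.card N := hP ▸ Subgroup.card_dvd_of_le Subgroup.le_normalizer
  have hodd : ¬ 2 ∣ Nat.card N := by
    intro h2
    obtain ⟨x, hx⟩ := exists_prime_orderOf_dvd_card' (G := N) 2 h2
    obtain ⟨g, hg⟩ := exists_prime_orderOf_dvd_card' (G := P) 7 (by rw [hP])
    rw [← Subgroup.orderOf_coe] at hx hg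
    have hy : (x : G) * g * (x : G)⁻¹ ∈ P := (Subgroup.mem_normalizer_iff.1 x.2 _).1 g.2
    have hxx : (x : G) * x = 1 := by
      have := pow_orderOf_eq_one (x : G)
      rwa [hx, sq] at this
    haveI : IsCyclic P := isCyclic_of_prime_card hP
    set y : G := (x : G) * g * (x : G)⁻¹ with hydef
    have hcomm : y * (g : G) = (g : G) * y := congrArg Subtype.val
      ((IsCyclic.commGroup (α := P)).mul_comm (⟨y, hy⟩ : P) g)
    have hinv : y = (g : G)⁻¹ := by
      by_contra hne
      let u : P := ⟨y * g, mul_mem hy g.2⟩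
      have hu : u ≠ 1 := fun hu => hne (eq_inv_of_mul_eq_one_left (congrArg Subtype.val hu))
      have hxu : (x : G) * u = (u : G) * x := by
        show (x : G) * (y * g) = (y * g) * x
        have hxi : (x : G)⁻¹ = x := inv_eq_of_mul_eq_one_right hxx
        have h1 : (x : G) * y = (g : G) * x := by
          rw [hydef, hxi]
          simp only [← mul_assoc, hxx, one_mul]
        have h2 : (x : G) * g = y * x := by rw [hydef, inv_mul_cancel_right]
        rw [← mul_assoc, h1, mul_assoc, h2, ← mul_assoc, ← hcomm]
      have hmem : (x : G) ∈ Subgroup.centralizer (P : Set G) := by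
        rw [Subgroup.mem_centralizer_iff]
        intro z hz
        obtain ⟨i, hi⟩ := Subgroup.mem_zpowers_iff.1
          (mem_zpowers_of_prime_card (G := P) hP hu (g' := ⟨z, hz⟩))
        have hzi : z = (u : G) ^ i := by simpa using (congrArg Subtype.val hi).symm
        rw [hzi]
        exact ((show Commute (x : G) u from hxu).zpow_right i).eq.symm
      have := orderOf_dvd_natCard (⟨(x : G), hmem⟩ : Subgroup.centralizer (P : Set G))
      rw [card_centralizer_seven f hf P hP, ← Subgroup.orderOf_coe, hx] at this
      omega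
    refine not_invert ((f g : alternatingGroup (Fin 8)) : Perm (Fin 8)) (f (x : G)) ?_ ?_ ?_ ?_
    · rw [Subgroup.orderOf_coe, orderOf_injective f hf, hg]
    · rw [Subgroup.orderOf_coe, orderOf_injective f hf, hx]
    · exact Perm.mem_alternatingGroup.1 (f (x : G)).2
    · rw [← Subgroup.coe_mul, ← Subgroup.coe_inv, ← Subgroup.coe_inv, ← Subgroup.coe_mul, ← map_inv,
        ← map_inv, ← map_mul, ← map_mul]
      exact congrArg (fun z => ((f z : alternatingGroup (Fin 8)) : Perm (Fin 8))) hinv
  have hle : Nat.card N ≤ 42 := Nat.le_of_dvd (by norm_num) (by simpa using hd)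
  obtain ⟨c, hc⟩ := h7
  rw [hc] at hd hodd hle ⊢
  have : c ≤ 6 := by omega
  interval_cases c <;> omega

variable {f}

theorem card_sylow_seven (P : Sylow 7 G) (h7 : 7 ∣ Nat.card G) : Nat.card (P : Subgroup G) = 7 := by
  haveI : Fact (Nat.Prime 7) := ⟨by norm_num⟩
  obtain ⟨k, hk⟩ := P.isPGroup'.exists_card_eq
  have h := P.dvd_card_of_dvd_card h7
  have hd := (Subgroup.card_subgroup_dvd_card (P : Subgroup G)).trans (card_dvd f hf)
  rw [hk] at hd h ⊢
  match k, hd, h with
  | 0, _, h => omega
  | 1, _, _ => rfl
  | k + 2, hd, _ =>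
    exact absurd ((pow_dvd_pow 7 (Nat.le_add_left 2 k)).trans hd) (by norm_num)

theorem seven_case [Nontrivial G] (hg : Good G) (ρ : G →* GL (Fin 4) (ZMod 2))
    (hρ : Function.Injective ρ) (h7 : 7 ∣ Nat.card G) :
    Nonempty (G ≃* alternatingGroup (Fin 8)) ∨ Nonempty (G ≃* alternatingGroup (Fin 7)) ∨
      Nonempty (G ≃* GL (Fin 3) (ZMod 2)) := by
  haveI : Fact (Nat.Prime 7) := ⟨by norm_num⟩
  haveI hA8 : IsSimpleGroup (alternatingGroup (Fin 8)) :=
    alternatingGroup.isSimpleGroup (by simp)
  have hA8card : Nat.card (alternatingGroup (Fin 8)) = 20160 := by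
    rw [nat_card_alternatingGroup, Nat.card_fin]; rfl
  have e := MonoidHom.ofInjective hf
  have hrc : Nat.card f.range = Nat.card G := Nat.card_congr e.symm.toEquiv
  have hmulr := f.range.card_mul_index
  rw [hrc, hA8card] at hmulr
  by_cases htop : f.range = ⊤
  · exact Or.inl ⟨e.trans ((MulEquiv.subgroupCongr htop).trans Subgroup.topEquiv)⟩
  have hidx : 8 ≤ f.range.index := by
    by_contra hlt
    have hd := (SmallSimple.card_dvd_factorial htop).trans
      (Nat.factorial_dvd_factorial (show f.range.index ≤ 7 by omega))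
    rw [hA8card] at hd
    exact absurd hd (by decide)
  have hle : Nat.card G ≤ 2520 := by nlinarith
  have hsol := not_isSolvable_of_good hg
  have hdvd := card_dvd f hf
  obtain ⟨P⟩ := (inferInstance : Nonempty (Sylow 7 G))
  have hP := card_sylow_seven hf P h7
  set N := Subgroup.normalizer ((P : Subgroup G) : Set G) with hN
  have hmul : Nat.card (Sylow 7 G) * Nat.card N = Nat.card G := by
    rw [P.card_eq_index_normalizer, mul_comm]
    exact N.card_mul_index
  have hmod : Nat.card (Sylow 7 G) % 7 = 1 := card_sylow_modEq_one 7 G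
  generalize hn : Nat.card (Sylow 7 G) = n at hmul hmod
  have hn1 : n ≠ 1 := by
    intro h1
    have htopN : N = ⊤ := Subgroup.eq_top_of_card_eq N (by rw [← hmul, h1, one_mul])
    haveI : (P : Subgroup G).Normal := Subgroup.normalizer_eq_top_iff.1 htopN
    haveI : Group.IsNilpotent (P : Subgroup G) := P.isPGroup'.isNilpotent
    have := hg P inferInstance inferInstance
    rw [this, Subgroup.card_bot] at hP
    omega
  rcases card_normalizer_seven f hf _ hP with hN7 | hN21
  · -- normal complement
    exfalso
    rw [hN7] at hmul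
    have hlist : n ∈ ([8, 15, 36, 64, 120, 288] : List ℕ) := by
      have key : ∀ n : ℕ, n < 361 → (n % 7 = 1 ∧ 20160 % (n * 7) = 0) → n ≠ 1 →
          n ∈ ([8, 15, 36, 64, 120, 288] : List ℕ) := by decide +kernel
      exact key n (by omega) ⟨hmod, Nat.mod_eq_zero_of_dvd (hmul ▸ hdvd)⟩ hn1
    haveI : IsCyclic (P : Subgroup G) := isCyclic_of_prime_card hP
    have hPN : Subgroup.normalizer ((P : Subgroup G) : Set G) ≤
        Subgroup.centralizer ((P : Subgroup G) : Set G) := by
      have h1 : (P : Subgroup G) = N := Subgroup.eq_of_le_of_card_ge Subgroup.le_normalizer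
        (by rw [hP, hN7])
      intro x hx
      have hx' : x ∈ (P : Subgroup G) := by rw [h1]; exact hx
      rw [Subgroup.mem_centralizer_iff]
      intro y hy
      exact congrArg Subtype.val
        ((IsCyclic.commGroup (α := (P : Subgroup G))).mul_comm ⟨y, hy⟩ ⟨x, hx'⟩)
    set K := (MonoidHom.transferSylow P hPN).ker with hK
    have hKc := (MonoidHom.ker_transferSylow_isComplement' P hPN).card_mul
    rw [hP] at hKc
    have hKn : Nat.card K = n := by
      rw [← hK] at hKc
      omega
    by_cases h120 : n = 120
    · -- the Frattini argument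
      haveI : Fact (Nat.Prime 5) := ⟨by norm_num⟩
      obtain ⟨Q⟩ := (inferInstance : Nonempty (Sylow 5 K))
      have hQ : Nat.card (Q : Subgroup K) = 5 :=
        SmallSimple.card_sylow_subgroup (p := 5) (k := 1) (m := 24)
          (by rw [hKn, h120]; norm_num) (by norm_num) Q
      set Q' := (Q : Subgroup K).map K.subtype with hQ'
      have hQ'c : Nat.card Q' = 5 := by
        rw [hQ', Subgroup.card_map_of_injective K.subtype_injective, hQ]
      have hfr := Sylow.normalizer_sup_eq_top Q
      rw [← hQ', sup_comm] at hfr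
      have hd' := PCore.card_sup_dvd K (Subgroup.normalizer (Q' : Set G))
      rw [hfr, Subgroup.card_top, hKn, ← hmul, h120] at hd'
      have h7N : 7 ∣ Nat.card (Subgroup.normalizer (Q' : Set G)) := by omega
      have h7C : 7 ∣ Nat.card (Subgroup.centralizer (Q' : Set G)) :=
        ((Nat.coprime_primes (by norm_num) Nat.prime_two).2 (by norm_num : (7:ℕ) ≠ 2)
          |>.pow_right 2).dvd_of_dvd_mul_right
          (h7N.trans (card_normalizer_dvd (by norm_num) Q' hQ'c))
      obtain ⟨y, hy⟩ := exists_prime_orderOf_dvd_card' 7 h7C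
      obtain ⟨q, hq⟩ := exists_prime_orderOf_dvd_card' (G := Q') 5 (by rw [hQ'c])
      have hcomm : Commute (q : G) (y : G) := Subgroup.mem_centralizer_iff.1 y.2 _ q.2
      rw [← Subgroup.orderOf_coe] at hy hq
      have hmo := hcomm.orderOf_mul_eq_mul_orderOf_of_coprime (by rw [hy, hq]; norm_num)
      have := orderOf_mem f hf ((q : G) * y)
      rw [hmo, hy, hq] at this
      simp at this
    · have hKs : Group.IsSolvable K := by
        by_cases h100 : n ≤ 100
        · exact isSolvable_of_card_le_hundred K (by omega) (fun h => by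
            simp only [List.mem_cons, List.not_mem_nil, or_false] at hlist
            omega)
        · exact CharInt.isSolvable_of_card_eq Nat.prime_two Nat.prime_three (a := 5) (b := 2) (by
            simp only [List.mem_cons, List.not_mem_nil, or_false] at hlist
            omega)
      have := hg K inferInstance hKs
      rw [this, Subgroup.card_bot] at hKn
      omega
  · rw [hN21] at hmul
    have hlist : n ∈ ([8, 15, 64, 120] : List ℕ) := by
      have key : ∀ n : ℕ, n < 121 → (n % 7 = 1 ∧ 20160 % (n * 21) = 0) → n ≠ 1 →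
          n ∈ ([8, 15, 64, 120] : List ℕ) := by
        decide +kernel
      exact key n (by omega) ⟨hmod, Nat.mod_eq_zero_of_dvd (hmul ▸ hdvd)⟩ hn1
    simp only [List.mem_cons, List.not_mem_nil, or_false] at hlist
    rcases hlist with rfl | rfl | rfl | rfl
    · -- 168
      have hG : Nat.card G = 168 := hmul.symm
      haveI := isSimpleGroup_of_good hg fun M _ hM => by
        have hd := M.card_subgroup_dvd_card
        rw [hG] at hd
        have hlt : Nat.card M ≠ 168 := fun h => hM (Subgroup.eq_top_of_card_eq M (h.trans hG.symm))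
        have key : ∀ d < 169, d ∣ 168 → d ≠ 168 → d ≤ 100 ∧ d ≠ 60 := by decide +kernel
        obtain ⟨h1, h2⟩ := key _ (Nat.lt_succ_of_le (Nat.le_of_dvd (by norm_num) hd)) hd hlt
        exact isSolvable_of_card_le_hundred M h1 h2
      exact Or.inr (Or.inr (iso_GL_three hG))
    · -- 315
      exfalso
      have hG : Nat.card G = 315 := hmul.symm
      haveI : Fact (Nat.Prime 3) := ⟨Nat.prime_three⟩
      haveI : Fact (Nat.Prime 5) := ⟨by norm_num⟩
      obtain ⟨R⟩ := (inferInstance : Nonempty (Sylow 3 G))
      have hR : Nat.card (R : Subgroup G) = 9 :=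
        SmallSimple.card_sylow_subgroup (p := 3) (k := 2) (m := 35) (by rw [hG]; norm_num)
          (by norm_num) R
      set M := Subgroup.normalizer ((R : Subgroup G) : Set G) with hM
      have hn3 : Nat.card (Sylow 3 G) * Nat.card M = 315 := by
        rw [R.card_eq_index_normalizer, mul_comm, ← hG]
        exact M.card_mul_index
      have hm3 : Nat.card (Sylow 3 G) % 3 = 1 := card_sylow_modEq_one 3 G
      have h9 : 9 ∣ Nat.card M := hR ▸ Subgroup.card_dvd_of_le Subgroup.le_normalizer
      have hMc : Nat.card M = 45 := by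
        have key : ∀ a < 36, a % 3 = 1 → a ∣ 35 → a = 1 ∨ a = 7 := by decide +kernel
        obtain ⟨c, hc⟩ := h9
        rw [hc] at hn3
        have h35 : Nat.card (Sylow 3 G) * c = 35 := by linarith
        rcases key _ (Nat.lt_succ_of_le (Nat.le_of_dvd (by norm_num) ⟨c, h35.symm⟩)) hm3
          ⟨c, h35.symm⟩ with h | h
        · exfalso
          have htopM : M = ⊤ := Subgroup.eq_top_of_card_eq M (by
            rw [hG, hc]; rw [h] at h35; omega)
          haveI : (R : Subgroup G).Normal := Subgroup.normalizer_eq_top_iff.1 htopM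
          haveI : Group.IsNilpotent (R : Subgroup G) := R.isPGroup'.isNilpotent
          have := hg R inferInstance inferInstance
          rw [this, Subgroup.card_bot] at hR
          omega
        · rw [hc]
          rw [h] at h35
          omega
      obtain ⟨Q⟩ := (inferInstance : Nonempty (Sylow 5 M))
      have hQ : Nat.card (Q : Subgroup M) = 5 :=
        SmallSimple.card_sylow_subgroup (p := 5) (k := 1) (m := 9) (by rw [hMc]; norm_num)
          (by norm_num) Q
      have hQn : (Q : Subgroup M).Normal := by
        have h1 : Nat.card (Sylow 5 M) % 5 = 1 := card_sylow_modEq_one 5 M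
        have h2 : Nat.card (Sylow 5 M) ∣ 9 := by
          have h3 := Q.card_dvd_index
          have h4 := (Q : Subgroup M).card_mul_index
          rw [hQ, hMc] at h4
          rwa [show (Q : Subgroup M).index = 9 by omega] at h3
        have h5 : Nat.card (Sylow 5 M) = 1 := by
          have hh := Nat.le_of_dvd (by norm_num) h2
          interval_cases Nat.card (Sylow 5 M) <;> omega
        haveI := (Nat.card_eq_one_iff_unique.1 h5).1
        exact Q.normal_of_subsingleton
      set Q' := (Q : Subgroup M).map M.subtype with hQ'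
      have hQ'c : Nat.card Q' = 5 := by
        rw [hQ', Subgroup.card_map_of_injective M.subtype_injective, hQ]
      have hMle : M ≤ Subgroup.normalizer (Q' : Set G) := by
        haveI := hQn
        have h := Subgroup.le_normalizer_map (H := (Q : Subgroup M)) M.subtype
        rwa [Subgroup.normalizer_eq_top, ← MonoidHom.range_eq_map, Subgroup.range_subtype] at h
      obtain ⟨S, hS⟩ := (IsPGroup.of_card (p := 5) (n := 1) (by rw [hQ'c]; norm_num) :
        IsPGroup 5 Q').exists_le_sylow
      have hSc : Nat.card (S : Subgroup G) = 5 :=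
        SmallSimple.card_sylow_subgroup (p := 5) (k := 1) (m := 63) (by rw [hG]; norm_num)
          (by norm_num) S
      have hSQ : Q' = (S : Subgroup G) := Subgroup.eq_of_le_of_card_ge hS (by rw [hSc, hQ'c])
      have h45 := hMc ▸ Subgroup.card_dvd_of_le hMle
      rw [hSQ] at h45
      set NS := Subgroup.normalizer ((S : Subgroup G) : Set G) with hNS
      have hn5 : Nat.card (Sylow 5 G) * Nat.card NS = 315 := by
        rw [S.card_eq_index_normalizer, mul_comm, ← hG]
        exact NS.card_mul_index
      have hm5 : Nat.card (Sylow 5 G) % 5 = 1 := card_sylow_modEq_one 5 G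
      obtain ⟨c, hc⟩ := h45
      rw [hc] at hn5
      have h7' : Nat.card (Sylow 5 G) * c = 7 := by linarith
      have h1 : Nat.card (Sylow 5 G) = 1 := by
        rcases (Nat.dvd_prime (show Nat.Prime 7 by norm_num)).1 ⟨c, h7'.symm⟩ with h | h <;> omega
      haveI := (Nat.card_eq_one_iff_unique.1 h1).1
      haveI := S.normal_of_subsingleton
      haveI : Group.IsNilpotent (S : Subgroup G) := S.isPGroup'.isNilpotent
      have := hg S inferInstance inferInstance
      rw [this, Subgroup.card_bot] at hSc
      omega
    · -- 1344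
      exfalso
      have hG : Nat.card G = 1344 := hmul.symm
      haveI : IsSimpleGroup G := isSimpleGroup_of_good hg fun M hMn hM => by
        haveI := hMn
        have hd := M.card_subgroup_dvd_card
        rw [hG] at hd
        by_cases h7M : 7 ∣ Nat.card M
        · by_cases h3M : 3 ∣ Nat.card M
          · exfalso
            obtain ⟨P', hP'⟩ : ∃ P' : Sylow 7 G, (P' : Subgroup G) ≤ M := by
              obtain ⟨x, hx⟩ := exists_prime_orderOf_dvd_card' (G := M) 7 h7M
              rw [← Subgroup.orderOf_coe] at hx
              obtain ⟨P', hP'⟩ := (IsPGroup.of_card (p := 7) (n := 1)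
                (by rw [Nat.card_zpowers, hx]; norm_num) :
                IsPGroup 7 (Subgroup.zpowers (x : G))).exists_le_sylow
              refine ⟨P', ?_⟩
              rw [← Subgroup.eq_of_le_of_card_ge hP'
                (by rw [card_sylow_seven hf P' h7, Nat.card_zpowers, hx])]
              exact Subgroup.zpowers_le.2 x.2
            have hfr := Sylow.normalizer_sup_eq_top' P' hP'
            rw [sup_comm, ← Sylow.coe_coe] at hfr
            have hd' := PCore.card_sup_dvd M (Subgroup.normalizer ((P' : Subgroup G) : Set G))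
            rw [hfr, Subgroup.card_top, hG] at hd'
            have hN' := card_normalizer_seven f hf _ (card_sylow_seven hf P' h7)
            have h21 : Nat.card (Subgroup.normalizer ((P' : Subgroup G) : Set G)) ∣ 21 := by
              rcases hN' with h | h <;> rw [h] <;> norm_num
            have h1344 : 1344 ∣ Nat.card M * 21 := hd'.trans (mul_dvd_mul_left _ h21)
            have h64 : 64 ∣ Nat.card M := by omega
            have : 1344 ≤ Nat.card M := Nat.le_of_dvd Nat.card_pos (by omega)
            exact hM (Subgroup.eq_top_of_card_eq M (by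
              rw [hG]; exact le_antisymm (Nat.le_of_dvd (by norm_num) hd) this))
          · have h2 : Nat.card M ∣ 448 := by
              have hcop : Nat.Coprime (Nat.card M) 3 :=
                ((Nat.Prime.coprime_iff_not_dvd Nat.prime_three).2 h3M).symm
              exact hcop.dvd_of_dvd_mul_right (by norm_num; exact hd)
            obtain ⟨a, b, ha, hb, hab⟩ :=
              (Nat.dvd_mul (k := Nat.card M) (m := 64) (n := 7)).1 h2
            obtain ⟨i, -, rfl⟩ := (Nat.dvd_prime_pow Nat.prime_two).1 (show a ∣ 2 ^ 6 from ha)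
            obtain ⟨j, -, rfl⟩ :=
              (Nat.dvd_prime_pow (show Nat.Prime 7 by norm_num)).1 (show b ∣ 7 ^ 1 from hb)
            exact CharInt.isSolvable_of_card_eq Nat.prime_two (by norm_num) hab.symm
        · have h2 : Nat.card M ∣ 192 := by
            have hcop : Nat.Coprime (Nat.card M) 7 :=
              ((Nat.Prime.coprime_iff_not_dvd (by norm_num)).2 h7M).symm
            exact hcop.dvd_of_dvd_mul_right (by norm_num; exact hd)
          obtain ⟨a, b, ha, hb, hab⟩ :=
            (Nat.dvd_mul (k := Nat.card M) (m := 64) (n := 3)).1 h2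
          obtain ⟨i, -, rfl⟩ := (Nat.dvd_prime_pow Nat.prime_two).1 (show a ∣ 2 ^ 6 from ha)
          obtain ⟨j, -, rfl⟩ := (Nat.dvd_prime_pow Nat.prime_three).1 (show b ∣ 3 ^ 1 from hb)
          exact CharInt.isSolvable_of_card_eq Nat.prime_two Nat.prime_three hab.symm
      exact false_of_simple_1344 (not_isMulCommutative_of_good hg) hG ρ hρ
    · -- 2520
      have hG : Nat.card G = 2520 := hmul.symm
      rw [hG] at hmulr
      have hcore : f.range.normalCore = ⊥ :=
        (IsSimpleGroup.eq_bot_or_eq_top_of_normal _ inferInstance).resolve_right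
          fun h => htop (top_le_iff.1 (h ▸ Subgroup.normalCore_le _))
      obtain ⟨r, hr⟩ := exists_embed_of_core_bot f.range (m := 7) (by omega) hcore
      refine Or.inr (Or.inl (nonempty_equiv_alternating (r.comp e.toMonoidHom)
        (hr.comp e.injective) ?_))
      rw [hG]; rfl

end Cfsg.Agent.A8Sub
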