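import Cfsg.Agent.Lib.A8Sub.Linear

/-!
# `A_7` acts two-transitively on the 15 points of `PG(3,2)`
-/

set_option autoImplicit false
set_option linter.style.haveILetI false

open Matrix

namespace Cfsg.Agent.A8Sub

/-- A fixed point free involution forces even cardinality. -/
theorem even_card_of_involutive {X : Type*} [Finite X] (σ : X → X)
    (h2 : ∀ x, σ (σ x) = x) (hne : ∀ x, σ x ≠ x) : 2 ∣ Nat.card X := by
  haveI := Fintype.ofFinite X
  rw [Nat.card_eq_fintype_card, ← ZMod.natCast_eq_zero_iff]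
  have h : ∑ _x : X, (1 : ZMod 2) = 0 :=
    Finset.sum_ninvolution σ (fun _ => by decide) (fun x _ => hne x) (fun _ => Finset.mem_univ _) h2
  simpa using h

section
variable {G : Type*} [Group G] [Finite G] {X : Type*} [MulAction G X] [Finite X]

/-- If an element of prime order fixes nothing in an orbit, the prime divides the orbit size. -/
theorem dvd_orbit_of_no_fixed {p : ℕ} (hp : p.Prime) {g : G} (hg : orderOf g = p) (x : X)
    (hfix : ∀ y ∈ MulAction.orbit G x, g • y ≠ y) : p ∣ (MulAction.orbit G x).ncard := by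
  haveI := Fact.mk hp
  rw [← Nat.card_coe_set_eq]
  by_contra hnd
  obtain ⟨y, hy⟩ := (IsPGroup.of_card (p := p) (n := 1) (by rw [Nat.card_zpowers, hg, pow_one]) :
    IsPGroup p (Subgroup.zpowers g)).nonempty_fixed_point_of_prime_not_dvd_card
      (MulAction.orbit G x) hnd
  exact hfix y.1 y.2 (congrArg Subtype.val (hy ⟨g, Subgroup.mem_zpowers g⟩))

end

/-- The fixed space of an element of order 5 or 7 in `GL_4(2)`. -/
theorem fixed_count {p : ℕ} (hp : p.Prime) (A : GL (Fin 4) (ZMod 2)) (hA : orderOf A = p) :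
    ∃ W : Finset (Fin 4 → ZMod 2), (∀ x, x ∈ W ↔ (A : Matrix (Fin 4) (Fin 4) (ZMod 2)) *ᵥ x = x) ∧
      W.card ∣ 16 ∧ W.card ≠ 16 ∧ W.card % p = 16 % p := by
  haveI := Fact.mk hp
  classical
  let Z : AddSubgroup (Fin 4 → ZMod 2) :=
    { carrier := {x | (A : Matrix (Fin 4) (Fin 4) (ZMod 2)) *ᵥ x = x}
      zero_mem' := Matrix.mulVec_zero _
      add_mem' := fun {a b} ha hb => by
        show (A : Matrix (Fin 4) (Fin 4) (ZMod 2)) *ᵥ (a + b) = a + b
        rw [Matrix.mulVec_add, ha, hb]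
      neg_mem' := fun {a} ha => by
        show (A : Matrix (Fin 4) (Fin 4) (ZMod 2)) *ᵥ (-a) = -a
        rw [Matrix.mulVec_neg, ha] }
  refine ⟨Finset.univ.filter fun x => (A : Matrix (Fin 4) (Fin 4) (ZMod 2)) *ᵥ x = x,
    fun x => by simp, ?_⟩
  have hcard : (Finset.univ.filter fun x => (A : Matrix (Fin 4) (Fin 4) (ZMod 2)) *ᵥ x = x).card = Nat.card Z := by
    rw [← Fintype.card_subtype, ← Nat.card_eq_fintype_card]
    rfl
  rw [hcard]
  have h16 : Nat.card (Fin 4 → ZMod 2) = 16 := by simp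
  refine ⟨h16 ▸ Z.card_addSubgroup_dvd_card, fun h => ?_, ?_⟩
  · have htop : Z = ⊤ := AddSubgroup.eq_top_of_card_eq Z (h.trans h16.symm)
    have hA1 : A = 1 := Units.ext (Matrix.ext_of_mulVec_single fun i => by
      have : (Pi.single i (1 : ZMod 2) : Fin 4 → ZMod 2) ∈ Z := htop ▸ trivial
      rw [Units.val_one, Matrix.one_mulVec]
      exact this)
    rw [hA1, orderOf_one] at hA
    exact hp.ne_one hA.symm
  · letI act : MulAction (Subgroup.zpowers A) (Fin 4 → ZMod 2) :=
      { smul := fun g x => ((g : GL (Fin 4) (ZMod 2)) : Matrix (Fin 4) (Fin 4) (ZMod 2)) *ᵥ x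
        one_smul := fun x => by
          show ((1 : GL (Fin 4) (ZMod 2)) : Matrix (Fin 4) (Fin 4) (ZMod 2)) *ᵥ x = x
          simp
        mul_smul := fun a b x => by
          show (((a * b : Subgroup.zpowers A) : GL (Fin 4) (ZMod 2)) : Matrix (Fin 4) (Fin 4) (ZMod 2)) *ᵥ x = _
          rw [Subgroup.coe_mul, Units.val_mul, ← Matrix.mulVec_mulVec]
          rfl }
    have hm := (IsPGroup.of_card (p := p) (n := 1) (by rw [Nat.card_zpowers, hA, pow_one]) :
      IsPGroup p (Subgroup.zpowers A)).card_modEq_card_fixedPoints (Fin 4 → ZMod 2)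
    rw [h16] at hm
    refine (Eq.trans ?_ hm.symm)
    congr 1
    refine Nat.card_congr (Equiv.subtypeEquivRight fun x => ⟨fun hx g => ?_, fun hx => ?_⟩)
    · let St : Subgroup (GL (Fin 4) (ZMod 2)) :=
        { carrier := {B | (B : Matrix (Fin 4) (Fin 4) (ZMod 2)) *ᵥ x = x}
          one_mem' := by simp
          mul_mem' := fun {a b} ha hb => by
            show ((a * b : GL (Fin 4) (ZMod 2)) : Matrix (Fin 4) (Fin 4) (ZMod 2)) *ᵥ x = x
            rw [Units.val_mul, ← Matrix.mulVec_mulVec, hb, ha]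
          inv_mem' := fun {a} ha => by
            show ((a⁻¹ : GL (Fin 4) (ZMod 2)) : Matrix (Fin 4) (Fin 4) (ZMod 2)) *ᵥ x = x
            conv_lhs => rw [← (ha : (a : Matrix (Fin 4) (Fin 4) (ZMod 2)) *ᵥ x = x)]
            rw [Matrix.mulVec_mulVec, ← Units.val_mul, inv_mul_cancel, Units.val_one,
              Matrix.one_mulVec] }
      exact (Subgroup.zpowers_le.2 (show A ∈ St from hx)) g.2
    · exact hx ⟨A, Subgroup.mem_zpowers A⟩

theorem no_fixed_five (A : GL (Fin 4) (ZMod 2)) (hA : orderOf A = 5) (x : Fin 4 → ZMod 2)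
    (hx : x ≠ 0) : (A : Matrix (Fin 4) (Fin 4) (ZMod 2)) *ᵥ x ≠ x := by
  obtain ⟨W, hW, hd, hne, hm⟩ := fixed_count (by norm_num) A hA
  intro h
  have h2 : 2 ≤ W.card := Finset.one_lt_card.2
    ⟨0, (hW 0).2 (Matrix.mulVec_zero _), x, (hW x).2 h, (Ne.symm hx)⟩
  have := Nat.le_of_dvd (by norm_num) hd
  interval_cases W.card <;> omega

theorem fixed_seven (A : GL (Fin 4) (ZMod 2)) (hA : orderOf A = 7) {v x : Fin 4 → ZMod 2}
    (hv : v ≠ 0) (hx : x ≠ 0) (hxv : x ≠ v) (hAv : (A : Matrix (Fin 4) (Fin 4) (ZMod 2)) *ᵥ v = v) :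
    (A : Matrix (Fin 4) (Fin 4) (ZMod 2)) *ᵥ x ≠ x := by
  obtain ⟨W, hW, hd, hne, hm⟩ := fixed_count (by norm_num) A hA
  intro h
  have h3 : 3 ≤ W.card := by
    have hsub : ({0, v, x} : Finset _) ⊆ W := by
      intro y hy
      simp only [Finset.mem_insert, Finset.mem_singleton] at hy
      rcases hy with hy | hy | hy <;> rw [hy]
      exacts [(hW 0).2 (Matrix.mulVec_zero _), (hW v).2 hAv, (hW x).2 h]
    refine le_trans ?_ (Finset.card_le_card hsub)
    rw [Finset.card_insert_of_notMem (by simp [Ne.symm hv, Ne.symm hx]),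
      Finset.card_pair (Ne.symm hxv)]
  have := Nat.le_of_dvd (by norm_num) hd
  interval_cases W.card <;> omega

/-- A simple group of order 2520 in `GL_4(2)` is two-transitive on the non-zero vectors. -/
theorem two_transitive_2520 {G : Type*} [Group G] [Finite G] [IsSimpleGroup G]
    (hG : Nat.card G = 2520) (ρ : G →* GL (Fin 4) (ZMod 2)) (hρ : Function.Injective ρ)
    (v w v' w' : Fin 4 → ZMod 2) (hv : v ≠ 0) (hw : w ≠ 0) (hvw : v ≠ w) (hv' : v' ≠ 0)
    (hw' : w' ≠ 0) (hvw' : v' ≠ w') :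
    ∃ g : G, (ρ g : Matrix (Fin 4) (Fin 4) (ZMod 2)) *ᵥ v = v' ∧ (ρ g : Matrix (Fin 4) (Fin 4) (ZMod 2)) *ᵥ w = w' := by
  classical
  letI actV : MulAction G (Fin 4 → ZMod 2) :=
    { smul := fun g x => (ρ g : Matrix (Fin 4) (Fin 4) (ZMod 2)) *ᵥ x
      one_smul := fun x => by
        show (ρ 1 : Matrix (Fin 4) (Fin 4) (ZMod 2)) *ᵥ x = x
        simp
      mul_smul := fun a b x => by
        show (ρ (a * b) : Matrix (Fin 4) (Fin 4) (ZMod 2)) *ᵥ x =
          (ρ a : Matrix (Fin 4) (Fin 4) (ZMod 2)) *ᵥ ((ρ b : Matrix (Fin 4) (Fin 4) (ZMod 2)) *ᵥ x)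
        simp [Matrix.mulVec_mulVec] }
  have hzero : ∀ g : G, g • (0 : Fin 4 → ZMod 2) = 0 := fun g => Matrix.mulVec_zero _
  have hne0 : ∀ (g : G) (x : Fin 4 → ZMod 2), x ≠ 0 → g • x ≠ 0 := fun g x hx h =>
    hx (by rw [← inv_smul_smul g x, h, hzero])
  haveI : Fact (Nat.Prime 2) := ⟨Nat.prime_two⟩
  haveI : Fact (Nat.Prime 5) := ⟨by norm_num⟩
  haveI : Fact (Nat.Prime 7) := ⟨by norm_num⟩
  have hcard : Nat.card (Fin 4 → ZMod 2) = 16 := by simp
  -- transitivity
  have htr : ∀ x y : Fin 4 → ZMod 2, x ≠ 0 → y ≠ 0 → y ∈ MulAction.orbit G x := by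
    obtain ⟨g5, hg5⟩ := exists_prime_orderOf_dvd_card' (G := G) 5 (by rw [hG]; norm_num)
    have hsize : ∀ x : Fin 4 → ZMod 2, x ≠ 0 →
        5 ∣ (MulAction.orbit G x).ncard ∧ 7 ≤ (MulAction.orbit G x).ncard ∧
        (MulAction.orbit G x).ncard ∣ 2520 := by
      intro x hx
      have hfree : ∀ y ∈ MulAction.orbit G x, g5 • y ≠ y := by
        rintro y ⟨g, rfl⟩
        exact no_fixed_five (ρ g5) (by rw [orderOf_injective ρ hρ, hg5]) _ (hne0 g x hx)
      have h5 := dvd_orbit_of_no_fixed (by norm_num) hg5 x hfree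
      have hd : (MulAction.orbit G x).ncard ∣ 2520 := by
        rw [← MulAction.index_stabilizer, ← hG]; exact Subgroup.index_dvd_card _
      refine ⟨h5, ?_, hd⟩
      by_contra h7
      have hne : MulAction.stabilizer G x ≠ ⊤ := fun htop => by
        have h1 := MulAction.index_stabilizer (G := G) (x := x)
        rw [htop, Subgroup.index_top] at h1
        rw [← h1] at h5
        norm_num at h5
      have hdd := (SmallSimple.card_dvd_factorial hne).trans
        (Nat.factorial_dvd_factorial (n := 6) (by rw [MulAction.index_stabilizer]; omega))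
      rw [hG] at hdd
      exact absurd hdd (by decide)
    intro x y hx hy
    by_contra hyx
    obtain ⟨h5x, h7x, -⟩ := hsize x hx
    obtain ⟨h5y, h7y, -⟩ := hsize y hy
    have hdisj : Disjoint (MulAction.orbit G x) (MulAction.orbit G y) := by
      rw [Set.disjoint_left]
      intro z hzx hzy
      exact hyx (by rw [← MulAction.orbit_eq_iff.2 hzx, MulAction.orbit_eq_iff.2 hzy];
                    exact MulAction.mem_orbit_self y)
    have hle : (MulAction.orbit G x ∪ MulAction.orbit G y).ncard ≤ 15 := by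
      calc _ ≤ ({(0 : Fin 4 → ZMod 2)}ᶜ : Set _).ncard := Set.ncard_le_ncard (by
              rintro z (⟨g, rfl⟩ | ⟨g, rfl⟩)
              · exact hne0 g x hx
              · exact hne0 g y hy) (Set.toFinite _)
        _ = 15 := by rw [Set.ncard_compl, Set.ncard_singleton, hcard]
    rw [Set.ncard_union_eq hdisj (Set.toFinite _) (Set.toFinite _)] at hle
    omega
  set S := MulAction.stabilizer G v with hS
  have horb : MulAction.orbit G v = {(0 : Fin 4 → ZMod 2)}ᶜ := Set.ext fun y =>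
    ⟨fun ⟨g, hg⟩ => hg ▸ hne0 g v hv, fun hy => htr v y hv hy⟩
  have hSi : S.index = 15 := by
    rw [hS, MulAction.index_stabilizer, horb, Set.ncard_compl, Set.ncard_singleton, hcard]
  have hSc : Nat.card S = 168 := by
    have := S.card_mul_index
    rw [hSi, hG] at this
    omega
  obtain ⟨g7, hg7⟩ := exists_prime_orderOf_dvd_card' (G := S) 7 (by rw [hSc]; norm_num)
  have hS7 : ∀ x : Fin 4 → ZMod 2, x ≠ 0 → x ≠ v →
      7 ∣ (MulAction.orbit S x).ncard ∧ MulAction.orbit S x ⊆ {0, v}ᶜ := by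
    intro x hx hxv
    have hsub : MulAction.orbit S x ⊆ {0, v}ᶜ := by
      rintro y ⟨s, rfl⟩ hy
      rcases hy with h | h
      · exact hne0 (s : G) x hx h
      · rw [Set.mem_singleton_iff] at h
        refine hxv (MulAction.injective (s : G) ?_)
        exact h.trans s.2.symm
    refine ⟨dvd_orbit_of_no_fixed (by norm_num) hg7 x fun y hy => ?_, hsub⟩
    have hy' := hsub hy
    simp only [Set.mem_compl_iff, Set.mem_insert_iff, Set.mem_singleton_iff, not_or] at hy'
    exact fixed_seven (ρ (g7 : G))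
      (by rw [orderOf_injective ρ hρ, Subgroup.orderOf_coe, hg7]) hv hy'.1 hy'.2 g7.2
  have h14 : ({0, v}ᶜ : Set (Fin 4 → ZMod 2)).ncard = 14 := by
    rw [Set.ncard_compl, Set.ncard_pair (Ne.symm hv), hcard]
  -- a swap through `v`
  obtain ⟨t, ht⟩ := exists_prime_orderOf_dvd_card' (G := G) 2 (by rw [hG]; norm_num)
  have htt : t * t = 1 := by
    have := pow_orderOf_eq_one t
    rwa [ht, sq] at this
  obtain ⟨z, hz⟩ : ∃ z : Fin 4 → ZMod 2, t • z ≠ z := by
    by_contra hcon
    push Not at hcon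
    have h1 : ρ t = ρ 1 := by
      rw [map_one]
      exact Units.ext (Matrix.ext_of_mulVec_single fun i => by
        rw [Units.val_one, Matrix.one_mulVec]; exact hcon _)
    have := hρ h1
    rw [this, orderOf_one] at ht
    omega
  have hz0 : z ≠ 0 := fun h => hz (by rw [h, hzero])
  obtain ⟨h, hh⟩ := htr z v hz0 hv
  set u : Fin 4 → ZMod 2 := h • t • z with hu
  set sw : G := h * t * h⁻¹ with hswd
  have hsw1 : sw • v = u := by
    rw [hswd, hu, mul_smul, mul_smul, ← hh, inv_smul_smul]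
  have hsw2 : sw • u = v := by
    rw [hswd, hu, ← hh, mul_smul, mul_smul, inv_smul_smul, ← mul_smul t t, htt, one_smul]
  have hu0 : u ≠ 0 := hne0 h _ (hne0 t z hz0)
  have huv : u ≠ v := fun hcon => hz (MulAction.injective h (hcon.trans hh.symm))
  obtain ⟨hu7, husub⟩ := hS7 u hu0 huv
  have hule : (MulAction.orbit S u).ncard ≤ 14 := h14 ▸ Set.ncard_le_ncard husub (Set.toFinite _)
  have hupos : 0 < (MulAction.orbit S u).ncard :=
    Set.ncard_pos (Set.toFinite _) |>.2 ⟨u, MulAction.mem_orbit_self u⟩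
  have hu14 : (MulAction.orbit S u).ncard = 14 := by
    by_contra hne14
    have h7 : (MulAction.orbit S u).ncard = 7 := by omega
    -- the orbital of `(v, u)` is symmetric with `105` arcs
    set P : Set ((Fin 4 → ZMod 2) × (Fin 4 → ZMod 2)) := MulAction.orbit G (v, u) with hP
    have hPc : P.ncard = 105 := by
      rw [hP, ← MulAction.index_stabilizer]
      have hle : MulAction.stabilizer G (v, u) ≤ S := fun g hg => congrArg Prod.fst hg
      rw [← Subgroup.relIndex_mul_index hle, hSi]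
      have hsub : (MulAction.stabilizer G (v, u)).subgroupOf S = MulAction.stabilizer S u := by
        ext s
        rw [Subgroup.mem_subgroupOf, MulAction.mem_stabilizer_iff, MulAction.mem_stabilizer_iff]
        exact ⟨fun hs => congrArg Prod.snd hs, fun hs => Prod.ext s.2 hs⟩
      rw [Subgroup.relIndex, hsub, MulAction.index_stabilizer, h7]
    have hswap : ∀ p : P, (p.1.2, p.1.1) ∈ P := by
      rintro ⟨p, g, rfl⟩
      exact ⟨g * sw, Prod.ext ((mul_smul g sw v).trans (by rw [hsw1]; rfl))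
        ((mul_smul g sw u).trans (by rw [hsw2]; rfl))⟩
    have heven := even_card_of_involutive (fun p : P => (⟨_, hswap p⟩ : P))
      (fun p => Subtype.ext rfl) (fun ⟨p, g, hg⟩ hp => by
        have h1 : p.2 = p.1 := congrArg (fun q : P => q.1.1) hp
        rw [← hg] at h1
        exact huv (MulAction.injective g h1))
    rw [Nat.card_coe_set_eq, hPc] at heven
    omega
  have hS14 : MulAction.orbit S u = {0, v}ᶜ :=
    Set.eq_of_subset_of_ncard_le husub (by rw [h14, hu14]) (Set.toFinite _)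
  have hStr : ∀ a b : Fin 4 → ZMod 2, a ≠ 0 → a ≠ v → b ≠ 0 → b ≠ v →
      ∃ s : G, s • v = v ∧ s • a = b := by
    intro a b ha hav hb hbv
    obtain ⟨s, hs⟩ : a ∈ MulAction.orbit S u := by rw [hS14]; simp [ha, hav]
    obtain ⟨r, hr⟩ : b ∈ MulAction.orbit S u := by rw [hS14]; simp [hb, hbv]
    refine ⟨((r * s⁻¹ : S) : G), (r * s⁻¹).2, ?_⟩
    show (r * s⁻¹) • a = b
    rw [← hs, mul_smul, inv_smul_smul]
    exact hr
  obtain ⟨g, hg⟩ := htr v' v hv' hv
  obtain ⟨s, hs1, hs2⟩ := hStr w (g • w') hw (Ne.symm hvw) (hne0 g w' hw')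
    (fun hcon => hvw' (MulAction.injective g (hg.trans hcon.symm)))
  refine ⟨g⁻¹ * s, ?_, ?_⟩
  · show (g⁻¹ * s) • v = v'
    rw [mul_smul, hs1, ← hg, inv_smul_smul]
  · show (g⁻¹ * s) • w = w'
    rw [mul_smul, hs2, inv_smul_smul]

/-- `A_7` inside `A_8`. -/
theorem exists_seven_in_eight :
    ∃ f : alternatingGroup (Fin 7) →* alternatingGroup (Fin 8), Function.Injective f := by
  let j : Equiv.Perm (Fin 7) →* Equiv.Perm (Fin 8) :=
    ((finSumFinEquiv (m := 7) (n := 1)).permCongrHom.toMonoidHom.comp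
      (Equiv.Perm.sumCongrHom (Fin 7) (Fin 1))).comp (MonoidHom.inl _ _)
  have hj : Function.Injective j := by
    refine ((finSumFinEquiv (m := 7) (n := 1)).permCongrHom.injective.comp
      Equiv.Perm.sumCongrHom_injective).comp ?_
    exact fun a b h => congrArg Prod.fst h
  refine ⟨(j.comp (alternatingGroup (Fin 7)).subtype).codRestrict _ fun x => ?_,
    fun a b h => Subtype.ext (hj (congrArg Subtype.val h))⟩
  rw [Equiv.Perm.mem_alternatingGroup]
  show Equiv.Perm.sign ((finSumFinEquiv (m := 7) (n := 1)).permCongr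
    (Equiv.Perm.sumCongr (x : Equiv.Perm (Fin 7)) 1)) = 1
  rw [Equiv.Perm.sign_permCongr, Equiv.Perm.sign_sumCongr, x.2, map_one, one_mul]

end Cfsg.Agent.A8Sub
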