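import Cfsg.Prelude.Def_Solvable
import Cfsg.Agent.Lib.SmallSimple.Low
import Cfsg.Agent.Lib.PCore.Basic
import Cfsg.Agent.Lib.Spectrum.Basic

/-!
# Tools for subgroups of `A_8` without solvable normal subgroups
-/

set_option autoImplicit false
set_option linter.style.haveILetI false

namespace Cfsg.Agent.A8Sub

open Subgroup
open scoped commutatorElement

variable {G : Type*} [Group G]

/-- No non-trivial solvable normal subgroup. -/
def Good (G : Type*) [Group G] : Prop :=
  ∀ N : Subgroup G, N.Normal → Group.IsSolvable N → N = ⊥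

theorem eq_bot_of_normal_pGroup [Finite G] (h1 : Cfsg.pPrimeCore 2 G = ⊥)
    (h2 : Cfsg.pCore 2 G = ⊥) {p : ℕ} (hp : p.Prime) (N : Subgroup G) [N.Normal]
    (hN : IsPGroup p N) : N = ⊥ := by
  haveI := Fact.mk hp
  rcases eq_or_ne p 2 with rfl | hne
  · exact le_bot_iff.1 (h2 ▸ PCore.le_pCore hN)
  · obtain ⟨n, hn⟩ := hN.exists_card_eq
    refine le_bot_iff.1 (h1 ▸ PCore.le_pPrimeCore ?_)
    rw [hn]
    exact Nat.Coprime.pow_left _ ((Nat.coprime_primes hp Nat.prime_two).2 hne)

theorem good_of_cores [Finite G] (h1 : Cfsg.pPrimeCore 2 G = ⊥)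
    (h2 : Cfsg.pCore 2 G = ⊥) : Good G := by
  intro N hN hsol
  haveI := hN
  by_contra hne
  have hnt : Nontrivial N := N.bot_or_nontrivial.resolve_left hne
  -- the last non-trivial term of the derived series
  obtain ⟨n, hn⟩ := hsol.solvable
  classical
  have hex : ∃ n, derivedSeries N n = ⊥ := ⟨n, hn⟩
  have h0 : Nat.find hex ≠ 0 := by
    intro h
    have := Nat.find_spec hex
    rw [h, derivedSeries_zero] at this
    exact bot_ne_top this.symm
  obtain ⟨m, hm⟩ := Nat.exists_eq_succ_of_ne_zero h0
  set A := derivedSeries N m with hA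
  have hAne : A ≠ ⊥ := Nat.find_min hex (by omega)
  have hAab : ⁅A, A⁆ = ⊥ := by
    have := Nat.find_spec hex
    rwa [hm] at this
  have hchar : A.Characteristic := derivedSeries_characteristic N m
  set B := A.map N.subtype with hB
  haveI : B.Normal := inferInstance
  have hBne : B ≠ ⊥ := by
    intro h
    exact hAne ((Subgroup.map_eq_bot_iff_of_injective _ N.subtype_injective).1 h)
  have hBab : ⁅B, B⁆ = ⊥ := by rw [hB, ← Subgroup.map_commutator, hAab, Subgroup.map_bot]
  haveI : Nontrivial B := B.bot_or_nontrivial.resolve_left hBne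
  have hcB : Nat.card B ≠ 1 := fun h => hBne (Subgroup.eq_bot_of_card_eq B h)
  obtain ⟨p, hp, hpB⟩ := Nat.exists_prime_and_dvd hcB
  haveI := Fact.mk hp
  obtain ⟨P⟩ := (inferInstance : Nonempty (Sylow p B))
  haveI : (P : Subgroup B).Normal := by
    refine ⟨fun x hx g => ?_⟩
    have hc : ⁅(g : G), (x : G)⁆ = 1 := by
      have := Subgroup.commutator_mem_commutator g.2 x.2
      rwa [hBab, Subgroup.mem_bot] at this
    have hcomm : g * x = x * g := Subtype.ext (commutatorElement_eq_one_iff_mul_comm.1 hc)
    rwa [hcomm, mul_inv_cancel_right]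
  haveI := P.characteristic_of_normal inferInstance
  have hbot := eq_bot_of_normal_pGroup h1 h2 hp ((P : Subgroup B).map B.subtype)
    (P.isPGroup'.map _)
  rw [Subgroup.map_eq_bot_iff_of_injective _ B.subtype_injective] at hbot
  exact P.ne_bot_of_dvd_card hpB hbot

theorem not_isSolvable_of_good [Nontrivial G] (hg : Good G) : ¬ Group.IsSolvable G := fun h =>
  bot_ne_top (hg ⊤ inferInstance inferInstance).symm

theorem isSolvable_of_le_hundred : ∀ n, ∀ (G : Type*) [Group G] [Finite G],
    Nat.card G = n → n ≤ 100 → n ≠ 60 → Group.IsSolvable G := by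
  intro n
  induction n using Nat.strong_induction_on with
  | _ n ih =>
    intro G _ _ hn h100 h60
    rcases subsingleton_or_nontrivial G with hs | hnt
    · exact inferInstance
    by_cases hsimp : ∀ N : Subgroup G, N.Normal → N = ⊥ ∨ N = ⊤
    · haveI : IsSimpleGroup G := ⟨hsimp⟩
      by_cases hc : IsMulCommutative G
      · exact IsSimpleGroup.comm_iff_isSolvable.1 fun a b => hc.is_comm.comm a b
      · exact absurd (SmallSimple.card_eq_sixty hc (hn ▸ h100)) (hn ▸ h60)
    · push Not at hsimp
      obtain ⟨N, hN, hNb, hNt⟩ := hsimp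
      have h2 : 2 ≤ Nat.card N := N.one_lt_card_iff_ne_bot.2 hNb
      have h3 : 2 ≤ N.index := by
        have := Subgroup.index_ne_zero_of_finite (H := N)
        have : N.index ≠ 1 := fun h => hNt (Subgroup.index_eq_one.1 h)
        omega
      have hmul := N.card_mul_index
      rw [hn] at hmul
      have hNlt : Nat.card N ≤ 50 := by nlinarith
      have hQlt : Nat.card (G ⧸ N) ≤ 50 := by
        have : N.index ≤ 50 := by nlinarith
        exact this
      have hQ : Nat.card (G ⧸ N) = N.index := rfl
      have s1 := ih (Nat.card N) (by nlinarith) N rfl (by omega) (by omega)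
      have s2 := ih (Nat.card (G ⧸ N)) (by nlinarith) (G ⧸ N) rfl (by omega) (by omega)
      exact Group.isSolvable_of_ker_le_range N.subtype (QuotientGroup.mk' N) (by simp)

theorem isSolvable_of_card_le_hundred (G : Type*) [Group G] [Finite G]
    (h : Nat.card G ≤ 100) (h' : Nat.card G ≠ 60) : Group.IsSolvable G :=
  isSolvable_of_le_hundred _ G rfl h h'

/-- Proper normal subgroups of solvable order are trivial. -/
theorem isSimpleGroup_of_good [Finite G] [Nontrivial G] (hg : Good G)
    (h : ∀ N : Subgroup G, N.Normal → N ≠ ⊤ → Group.IsSolvable N) : IsSimpleGroup G :=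
  ⟨fun N hN => (em (N = ⊤)).symm.imp (fun ht => hg N hN (h N hN ht)) id⟩

theorem not_isMulCommutative_of_good [Nontrivial G] (hg : Good G) : ¬ IsMulCommutative G :=
  fun hc => not_isSolvable_of_good hg (Group.isSolvable_of_comm fun a b => hc.is_comm.comm a b)

theorem iso_alternating_five [Finite G] [Nontrivial G] (hg : Good G) (h : Nat.card G = 60) :
    Nonempty (G ≃* alternatingGroup (Fin 5)) := by
  haveI : IsSimpleGroup G := isSimpleGroup_of_good hg fun N _ hN => by
    have hd := N.card_subgroup_dvd_card
    rw [h] at hd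
    have hlt : Nat.card N ≠ 60 := fun hh => hN (Subgroup.eq_top_of_card_eq N (hh.trans h.symm))
    exact isSolvable_of_card_le_hundred N (le_trans (Nat.le_of_dvd (by norm_num) hd) (by norm_num))
      hlt
  exact SmallSimple.iso_alternating_five (not_isMulCommutative_of_good hg) h

/-- `|N_G(P)|` divides `|C_G(P)| (p - 1)` for `|P| = p`. -/
theorem card_normalizer_dvd [Finite G] {p : ℕ} (hp : p.Prime) (P : Subgroup G)
    (hP : Nat.card P = p) :
    Nat.card (Subgroup.normalizer (P : Set G)) ∣
      Nat.card (Subgroup.centralizer (P : Set G)) * (p - 1) := by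
  haveI := Fact.mk hp
  haveI : IsCyclic P := isCyclic_of_prime_card hP
  set N : Subgroup G := Subgroup.normalizer (P : Set G)
  have hker : Nat.card P.normalizerMonoidHom.ker = Nat.card (Subgroup.centralizer (P : Set G)) := by
    rw [Subgroup.normalizerMonoidHom_ker]
    exact Nat.card_congr (Subgroup.subgroupOfEquivOfLe
      (Subgroup.centralizer_le_normalizer _)).toEquiv
  rw [← Subgroup.card_mul_index P.normalizerMonoidHom.ker, hker]
  refine mul_dvd_mul_left _ ?_
  rw [Subgroup.index_ker]
  refine dvd_trans (Subgroup.card_subgroup_dvd_card _) ?_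
  rw [IsCyclic.card_mulAut, hP, Nat.totient_prime hp]

/-- A subgroup `B` of index `k` with trivial core embeds in `S_{k-1}`. -/
theorem exists_embed_of_core_bot [Finite G] (B : Subgroup G) {m : ℕ} (hk : B.index = m + 1)
    (hcore : B.normalCore = ⊥) : ∃ f : B →* Equiv.Perm (Fin m), Function.Injective f := by
  classical
  let x₀ : G ⧸ B := ((1 : G) : G ⧸ B)
  have hfix : ∀ b : B, MulAction.toPermHom G (G ⧸ B) (b : G) x₀ = x₀ := fun b => by
    show (b : G) • x₀ = x₀
    simp only [x₀, MulAction.Quotient.smul_mk, smul_eq_mul, mul_one]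
    rw [QuotientGroup.eq, mul_one]
    exact inv_mem b.2
  have hiff : ∀ b : B, ∀ x, MulAction.toPermHom G (G ⧸ B) (b : G) x ≠ x₀ ↔ x ≠ x₀ := fun b x => by
    rw [not_iff_not]
    constructor
    · intro h
      exact (MulAction.toPermHom G (G ⧸ B) (b : G)).injective (h.trans (hfix b).symm)
    · rintro rfl
      exact hfix b
  let r : B →* Equiv.Perm {x : G ⧸ B // x ≠ x₀} :=
    { toFun := fun b => (MulAction.toPermHom G (G ⧸ B) (b : G)).subtypePerm (hiff b)
      map_one' := by ext x; simp
      map_mul' := fun a b => by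
        ext x
        show (((a * b : B) : G)) • (x : G ⧸ B) = (a : G) • ((b : G) • (x : G ⧸ B))
        rw [Subgroup.coe_mul, mul_smul] }
  have hr : Function.Injective r := by
    refine (injective_iff_map_eq_one r).2 fun b hb => ?_
    have hall : ∀ x, MulAction.toPermHom G (G ⧸ B) (b : G) x = x := fun x => by
      rcases eq_or_ne x x₀ with rfl | hx
      · exact hfix b
      · exact congrArg Subtype.val (Equiv.congr_fun hb ⟨x, hx⟩)
    have hmem : (b : G) ∈ (MulAction.toPermHom G (G ⧸ B)).ker := Equiv.ext hall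
    rw [← Subgroup.normalCore_eq_ker, hcore, Subgroup.mem_bot] at hmem
    exact Subtype.ext hmem
  haveI : Fintype (G ⧸ B) := Fintype.ofFinite _
  have hcard : Nat.card {x : G ⧸ B // x ≠ x₀} = m := by
    rw [Nat.card_eq_fintype_card, Fintype.card_subtype_compl, Fintype.card_subtype_eq,
      ← Nat.card_eq_fintype_card]
    have : Nat.card (G ⧸ B) = m + 1 := hk
    omega
  exact ⟨(Finite.equivFinOfCardEq hcard).permCongrHom.toMonoidHom.comp r,
    (Finite.equivFinOfCardEq hcard).permCongrHom.injective.comp hr⟩

/-- An injective hom between groups of equal finite order gives an isomorphism. -/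
theorem nonempty_equiv_of_card {H : Type*} [Group H] [Finite H] (f : G →* H)
    (hf : Function.Injective f) (h : Nat.card G = Nat.card H) : Nonempty (G ≃* H) :=
  haveI := Finite.of_injective f hf
  ⟨MulEquiv.ofBijective f ((Nat.bijective_iff_injective_and_card f).2 ⟨hf, h⟩)⟩

/-- An injective hom of half order into `S_n` is onto `A_n`. -/
theorem nonempty_equiv_alternating {n : ℕ} (f : G →* Equiv.Perm (Fin n))
    (hf : Function.Injective f) (h : 2 * Nat.card G = Nat.factorial n) :
    Nonempty (G ≃* alternatingGroup (Fin n)) := by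
  have e := MonoidHom.ofInjective hf
  have hc : Nat.card f.range = Nat.card G := Nat.card_congr e.symm.toEquiv
  have hmul := f.range.card_mul_index
  rw [hc, Nat.card_perm, Nat.card_fin, ← h] at hmul
  have hpos : 0 < Nat.card G := by
    have := n.factorial_pos
    omega
  have hidx : f.range.index = 2 := by nlinarith
  exact ⟨e.trans (MulEquiv.subgroupCongr (Equiv.Perm.eq_alternatingGroup_of_index_eq_two hidx))⟩

theorem orderOf_mem_eight (σ : alternatingGroup (Fin 8)) :
    orderOf σ ∈ [1, 2, 3, 4, 5, 6, 7, 15] :=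
  Spectrum.orderOf_alternating_mem 4 (by norm_num) _ (by decide +kernel) σ

end Cfsg.Agent.A8Sub
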